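import Cfsg.Agent.Lib.DihedralBlock.Groups
import Cfsg.Agent.Lib.Blocks.IndexThree
import Cfsg.Agent.Lib.Characters.Sections

/-!
# Brauer's virtual characters for a dihedral Sylow 2-subgroup
-/

set_option autoImplicit false
set_option linter.unusedSectionVars false
set_option linter.style.haveILetI false

namespace Cfsg.Agent.Lib.DihedralBlock

open Cfsg Cfsg.Agent.Lib.Characters Cfsg.Agent.Lib.Blocks Cfsg.Agent.Lib.Cores
open Cfsg.Agent.Lib.Involutions DihedralGroup
open scoped ComplexConjugate Classical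

universe u

section Roots

variable {m : ℕ} [NeZero m] {ζ : ℂ}

/-- The additive character of `ZMod m` given by a root of unity. -/
noncomputable def ez (ζ : ℂ) (a : ZMod m) : ℂ := ζ ^ a.val

/-- The sum of a power of the root and its inverse. -/
noncomputable def theta (ζ : ℂ) (r l : ZMod m) : ℂ := ez ζ (r * l) + ez ζ (-(r * l))

theorem ez_eq_addChar (hζ : IsPrimitiveRoot ζ m) (a : ZMod m) :
    ez ζ a = AddChar.zmodChar m hζ.pow_eq_one a := rfl

theorem ez_zero : ez ζ (0 : ZMod m) = 1 := by simp [ez]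

theorem ez_natCast (hζ : IsPrimitiveRoot ζ m) (k : ℕ) : ez ζ (k : ZMod m) = ζ ^ k := by
  rw [ez_eq_addChar hζ, AddChar.zmodChar_apply']

theorem ez_add (hζ : IsPrimitiveRoot ζ m) (a b : ZMod m) : ez ζ (a + b) = ez ζ a * ez ζ b := by
  simp only [ez_eq_addChar hζ, AddChar.map_add_eq_mul]

theorem conj_ez (hζ : IsPrimitiveRoot ζ m) (a : ZMod m) : conj (ez ζ a) = ez ζ (-a) := by
  rw [ez_eq_addChar hζ, ez_eq_addChar hζ, AddChar.map_neg_eq_conj]

theorem ez_neg (hζ : IsPrimitiveRoot ζ m) (a : ZMod m) : ez ζ (-a) = (ez ζ a)⁻¹ := by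
  refine eq_inv_of_mul_eq_one_left ?_
  rw [← ez_add hζ, neg_add_cancel, ez_zero]

theorem sum_ez_mul (hζ : IsPrimitiveRoot ζ m) (a : ZMod m) :
    ∑ r : ZMod m, ez ζ (r * a) = if a = 0 then (m : ℂ) else 0 := by
  have h := AddChar.sum_mulShift a (AddChar.zmodChar_primitive_of_primitive_root m hζ)
  rw [ZMod.card] at h
  simp only [ez_eq_addChar hζ]
  rw [h]
  split_ifs <;> simp

theorem conj_theta (hζ : IsPrimitiveRoot ζ m) (r l : ZMod m) : conj (theta ζ r l) = theta ζ r l := by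
  simp only [theta, map_add, conj_ez hζ, neg_neg]; ring

theorem theta_neg_right (r l : ZMod m) : theta ζ r (-l) = theta ζ r l := by
  simp only [theta, mul_neg, neg_neg]; ring

theorem theta_neg_left (r l : ZMod m) : theta ζ (-r) l = theta ζ r l := by
  simp only [theta, neg_mul, neg_neg]; ring

theorem theta_apply_zero (r : ZMod m) : theta ζ r 0 = 2 := by
  simp only [theta, mul_zero, neg_zero, ez_zero]; norm_num

theorem sum_theta_mul_ez (hζ : IsPrimitiveRoot ζ m) (k l : ZMod m) :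
    ∑ r : ZMod m, theta ζ r k * ez ζ (r * l) =
      (if k = -l then (m : ℂ) else 0) + (if k = l then (m : ℂ) else 0) := by
  have h : ∀ r : ZMod m, theta ζ r k * ez ζ (r * l) = ez ζ (r * (k + l)) + ez ζ (r * (l - k)) := fun r => by
    rw [theta, add_mul, ← ez_add hζ, ← ez_add hζ, mul_add, mul_sub]
    congr 2
    ring
  simp only [Finset.sum_congr rfl fun r _ => h r, Finset.sum_add_distrib, sum_ez_mul hζ, add_eq_zero_iff_eq_neg,
    sub_eq_zero, eq_comm (a := l) (b := k)]

theorem sum_theta_mul_theta (hζ : IsPrimitiveRoot ζ m) (r u : ZMod m) :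
    ∑ l : ZMod m, theta ζ r l * theta ζ u l =
      2 * (m : ℂ) * ((if r = u then (1 : ℂ) else 0) + (if r = -u then 1 else 0)) := by
  have h1 : ∀ l : ZMod m, theta ζ r l * theta ζ u l =
      theta ζ l r * ez ζ (l * u) + theta ζ l r * ez ζ (l * -u) := fun l => by
    simp only [theta, mul_comm r, mul_comm u, mul_neg]; ring
  simp only [Finset.sum_congr rfl fun l _ => h1 l, Finset.sum_add_distrib, sum_theta_mul_ez hζ,
    neg_neg]
  split_ifs <;> ring

theorem theta_half_cases (hζ : IsPrimitiveRoot ζ m) {h : ZMod m} (hh : h + h = 0) (r : ZMod m) :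
    theta ζ r h = 2 ∨ theta ζ r h = -2 := by
  have h2 : -(r * h) = r * h := by
    have : r * (h + h) = 0 := by rw [hh, mul_zero]
    linear_combination -this
  have hsq : ez ζ (r * h) * ez ζ (r * h) = 1 := by
    rw [← ez_add hζ, ← mul_add, hh, mul_zero, ez_zero]
  rcases mul_self_eq_one_iff.mp hsq with h1 | h1
  · left; rw [theta, h2, h1]; norm_num
  · right; rw [theta, h2, h1]; norm_num

end Roots

theorem two_mul_sum_periodic {m : ℕ} [NeZero m] (g : ZMod m → ℂ) (hg : ∀ i, g (i + 1 + 1) = g i) :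
    2 * ∑ i, g i = m * (g 0 + g 1) := by
  have hshift : ∑ i, g (i + 1) = ∑ i, g i := Equiv.sum_comp (Equiv.addRight (1 : ZMod m)) g
  have hk : ∀ k : ℕ, g (k : ZMod m) + g ((k : ZMod m) + 1) = g 0 + g 1 := by
    intro k
    induction k with
    | zero => simp
    | succ k ih => rw [Nat.cast_succ, hg, ← ih]; ring
  have hc : ∀ i : ZMod m, g i + g (i + 1) = g 0 + g 1 := fun i => by
    simpa using hk i.val
  rw [two_mul]
  nth_rewrite 2 [← hshift]
  rw [← Finset.sum_add_distrib, Finset.sum_congr rfl fun i _ => hc i, Finset.sum_const,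
    Finset.card_univ, ZMod.card, nsmul_eq_mul]

section Phi

variable {G : Type u} [Group G] [Fintype G] [Fintype (IrrCharacter G)] {M : Ideal AlgInt}
  [hMp : M.IsPrime] {m : ℕ} [NeZero m] (d : DihSylow G m)

/-- Values on the nonidentity rotations, cut to the principal block. -/
noncomputable def wv (M : Ideal AlgInt) (χ : IrrCharacter G) (l : ZMod m) : ℂ :=
  if l ≠ 0 ∧ χ ∈ principalBlock M G then (χ : G → ℂ) (d.ι (r l)) else 0

/-- The coefficient of `χ` in `Phi f`. -/
noncomputable def cf (M : Ideal AlgInt) (f : ZMod m → ℂ) (χ : IrrCharacter G) : ℂ :=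
  (2 * (m : ℂ))⁻¹ * ∑ l, f l * conj (wv d M χ l)

/-- The function with value `f l` on the 2-section of the rotation `l`. -/
noncomputable def Phi (M : Ideal AlgInt) (f : ZMod m → ℂ) : G → ℂ :=
  ∑ χ : IrrCharacter G, cf d M f χ • (χ : G → ℂ)

variable {d}

theorem cf_eq_zero_of_not_mem {χ : IrrCharacter G} (hχ : χ ∉ principalBlock M G) (f : ZMod m → ℂ) :
    cf d M f χ = 0 := by
  simp [cf, wv, hχ]

theorem wv_neg (χ : IrrCharacter G) (l : ZMod m) : wv d M χ (-l) = wv d M χ l := by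
  obtain ⟨c, hc⟩ := isConj_iff.1 (isConj_r_neg d l)
  simp only [wv, ne_eq, neg_eq_zero, ← hc, irr_isClassFunction χ _ c]

theorem conj_wv (χ : IrrCharacter G) (l : ZMod m) : conj (wv d M χ l) = wv d M χ l := by
  conv_rhs => rw [← wv_neg]
  simp only [wv, ne_eq, neg_eq_zero]
  split_ifs
  · rw [← inv_r, map_inv, IsCharacter.apply_inv (irr_isCharacter χ)]
  · simp

theorem isClassFunction_Phi (f : ZMod m → ℂ) : IsClassFunction G (Phi d M f) := fun g c => by
  simp only [Phi, Finset.sum_apply, Pi.smul_apply, smul_eq_mul]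
  exact Finset.sum_congr rfl fun χ _ => congrArg _ (irr_isClassFunction χ g c)

theorem classInner_Phi (f : ZMod m → ℂ) (χ : IrrCharacter G) :
    classInner (Phi d M f) (χ : G → ℂ) = cf d M f χ := by
  simp only [Phi, classInner_sum_left, classInner_smul_left, classInner_irr, mul_ite, mul_one,
    mul_zero, Finset.sum_ite_eq', Finset.mem_univ, if_true]

theorem sum_mul_wv (hM : IsPModular 2 M) (g : G) {l : ZMod m} (hl : l ≠ 0) :
    ∑ χ : IrrCharacter G, (χ : G → ℂ) g * conj (wv d M χ l) =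
      if ∃ v, IsPPart 2 g v ∧ IsConj v (d.ι (r l)) then
        (if l + l = 0 then 2 * (m : ℂ) else m) else 0 := by
  haveI : Fact (Nat.Prime 2) := ⟨Nat.prime_two⟩
  have hx := exists_two_pow_orderOf d (d.ι_mem (r l))
  have hidx := index_pPrimeCore_centralizer d hx (r_ne_one d hl)
  have h := sum_principal_mul_conj_section (x := d.ι (r l)) (g := g) hM hx hidx
  rw [← hidx, index_rotation d hl] at h
  have e : ∀ χ : IrrCharacter G, (χ : G → ℂ) g * conj (wv d M χ l) =
      if χ ∈ principalBlock M G then (χ : G → ℂ) g * conj ((χ : G → ℂ) (d.ι (r l))) else 0 := fun χ => by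
    by_cases hχ : χ ∈ principalBlock M G <;> simp [wv, hl, hχ]
  rw [Finset.sum_congr rfl fun χ _ => e χ, h]
  split_ifs <;> simp

theorem Phi_apply (hM : IsPModular 2 M) (f : ZMod m → ℂ) (g : G) :
    Phi d M f g = (2 * (m : ℂ))⁻¹ * ∑ l, if l ≠ 0 ∧ ∃ v, IsPPart 2 g v ∧ IsConj v (d.ι (r l)) then
      f l * (if l + l = 0 then 2 * (m : ℂ) else m) else 0 := by
  simp only [Phi, Finset.sum_apply, Pi.smul_apply, smul_eq_mul, cf, mul_assoc, ← Finset.mul_sum,
    Finset.sum_mul]
  congr 1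
  rw [Finset.sum_comm]
  refine Finset.sum_congr rfl fun l _ => ?_
  simp only [← Finset.mul_sum, mul_comm (conj _)]
  by_cases hl : l = 0
  · rw [if_neg (fun h => h.1 hl)]
    simp [wv, hl]
  · rw [sum_mul_wv hM g hl]
    by_cases h : ∃ v, IsPPart 2 g v ∧ IsConj v (d.ι (r l))
    · rw [if_pos h, if_pos (show l ≠ 0 ∧ _ from ⟨hl, h⟩)]
    · rw [if_neg h, if_neg fun hh => h hh.2, mul_zero]

theorem Phi_of_section (hM : IsPModular 2 M) {f : ZMod m → ℂ} (hf : ∀ l, f (-l) = f l) {g v : G}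
    (hv : IsPPart 2 g v) {a : ZMod m} (ha : a ≠ 0) (hva : IsConj v (d.ι (r a))) :
    Phi d M f g = f a := by
  have hiff : ∀ l : ZMod m, (l ≠ 0 ∧ ∃ w, IsPPart 2 g w ∧ IsConj w (d.ι (r l))) ↔ l = a ∨ l = -a := by
    intro l
    constructor
    · rintro ⟨-, w, hw, hwl⟩
      rw [isPPart_unique Nat.prime_two hw hv] at hwl
      exact eq_or_eq_neg_of_isConj d ha (hva.symm.trans hwl)
    · rintro (rfl | rfl)
      · exact ⟨ha, v, hv, hva⟩
      · exact ⟨neg_ne_zero.2 ha, v, hv, hva.trans (isConj_r_neg d a)⟩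
  have hm : (m : ℂ) ≠ 0 := Nat.cast_ne_zero.2 (NeZero.ne m)
  rw [Phi_apply hM, ← Finset.sum_filter, Finset.filter_congr fun l _ => hiff l]
  have hset : (Finset.univ.filter fun l : ZMod m => l = a ∨ l = -a) = {a, -a} := by ext l; simp
  rw [hset]
  by_cases h2 : a + a = 0
  · rw [show -a = a by linear_combination -h2, Finset.pair_eq_singleton, Finset.sum_singleton, if_pos h2]
    field_simp
  · have hne : a ≠ -a := fun h => h2 (by linear_combination h)
    rw [Finset.sum_pair hne, if_neg h2, if_neg (fun h => h2 (by linear_combination -h)), hf]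
    field_simp
    ring

theorem Phi_of_not_section (hM : IsPModular 2 M) (f : ZMod m → ℂ) {g v : G} (hv : IsPPart 2 g v)
    (hno : ∀ a : ZMod m, a ≠ 0 → ¬ IsConj v (d.ι (r a))) : Phi d M f g = 0 := by
  rw [Phi_apply hM, Finset.sum_eq_zero, mul_zero]
  intro l _
  rw [if_neg]
  rintro ⟨hl, w, hw, hwl⟩
  exact hno l hl (isPPart_unique Nat.prime_two hw hv ▸ hwl)

theorem Phi_odd (hM : IsPModular 2 M) (f : ZMod m → ℂ) {g : G} (hg : ¬ 2 ∣ orderOf g) :
    Phi d M f g = 0 :=
  Phi_of_not_section hM f (isPPart_one_of_not_dvd hg)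
    fun a ha h => r_ne_one d ha (isConj_one_right.1 h)

theorem isPPart_self {z : G} (hz : ∃ k : ℕ, orderOf z = 2 ^ k) : IsPPart 2 z z :=
  ⟨1, mul_one z, Commute.one_right z, hz, by rw [orderOf_one]; norm_num⟩

theorem Phi_rot (hM : IsPModular 2 M) {f : ZMod m → ℂ} (hf : ∀ l, f (-l) = f l) (h0 : f 0 = 0)
    (a : ZMod m) : Phi d M f (d.ι (r a)) = f a := by
  by_cases ha : a = 0
  · subst ha
    rw [h0, ← one_def, map_one]
    exact Phi_odd hM f (by rw [orderOf_one]; norm_num)
  · exact Phi_of_section hM hf (isPPart_self (exists_two_pow_orderOf d (d.ι_mem _))) ha (IsConj.refl _)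

/-- The isometry. -/
theorem classInner_Phi_Phi (hM : IsPModular 2 M) {f h : ZMod m → ℂ} (hf : ∀ l, f (-l) = f l)
    (hf0 : f 0 = 0) : classInner (Phi d M f) (Phi d M h) = (2 * (m : ℂ))⁻¹ * ∑ l, f l * conj (h l) := by
  conv_lhs => arg 2; rw [Phi]
  simp only [classInner_sum_right, classInner_smul_right, classInner_Phi]
  have e : ∀ χ : IrrCharacter G, conj (cf d M h χ) * cf d M f χ =
      (2 * (m : ℂ))⁻¹ * ∑ l, conj (h l) * (wv d M χ l * cf d M f χ) := fun χ => by
    rw [cf, map_mul, map_sum, map_inv₀, map_mul, map_natCast, map_ofNat, mul_assoc, Finset.sum_mul]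
    refine congrArg _ (Finset.sum_congr rfl fun l _ => ?_)
    rw [map_mul, Complex.conj_conj, mul_assoc]
  rw [Finset.sum_congr rfl fun χ _ => e χ, ← Finset.mul_sum, Finset.sum_comm]
  refine congrArg _ (Finset.sum_congr rfl fun l _ => ?_)
  rw [← Finset.mul_sum, mul_comm (f l)]
  congr 1
  by_cases hl : l = 0
  · subst hl; simp [wv, hf0]
  · rw [← Phi_rot hM hf hf0 l (d := d)]
    simp only [Phi, Finset.sum_apply, Pi.smul_apply, smul_eq_mul]
    refine Finset.sum_congr rfl fun χ _ => ?_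
    by_cases hχ : χ ∈ principalBlock M G
    · simp [wv, hl, hχ, mul_comm]
    · rw [cf_eq_zero_of_not_mem hχ]; simp

end Phi

section Integral

variable {G : Type u} [Group G] [Fintype G] [Fintype (IrrCharacter G)] {M : Ideal AlgInt}
  [hMp : M.IsPrime] {m : ℕ} [NeZero m] {d : DihSylow G m} {ζ : ℂ}

/-- The difference of two `theta`s. -/
noncomputable def tdiff (ζ : ℂ) (a b : ZMod m) : ZMod m → ℂ := fun l => theta ζ a l - theta ζ b l

theorem tdiff_neg (a b l : ZMod m) : tdiff ζ a b (-l) = tdiff ζ a b l := by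
  simp only [tdiff, theta_neg_right]

theorem tdiff_zero (a b : ZMod m) : tdiff ζ a b 0 = 0 := by
  simp only [tdiff, theta_apply_zero, sub_self]

theorem exists_int_conj_sum (hζ : IsPrimitiveRoot ζ m) (ψ : IrrCharacter (DihedralGroup m))
    (a : ZMod m) : ∃ k : ℤ, ∑ l : ZMod m, theta ζ a l * conj ((ψ : DihedralGroup m → ℂ) (r l)) =
      2 * (m : ℂ) * k := by
  let j : Multiplicative (ZMod m) →* DihedralGroup m :=
    { toFun := fun x => r x.toAdd
      map_one' := rfl
      map_mul' := fun x y => by simp }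
  let lam : Multiplicative (ZMod m) →* ℂ :=
    { toFun := fun x => ez ζ (a * x.toAdd)
      map_one' := by simp [ez_zero]
      map_mul' := fun x y => by rw [toAdd_mul, mul_add, ez_add hζ] }
  obtain ⟨k, hk⟩ := IsCharacter.exists_classInner_nat
    (IsIrrCharacter.isCharacter (isIrrCharacter_monoidHom lam)) (IsCharacter.comp (irr_isCharacter ψ) j)
  refine ⟨k, ?_⟩
  have h1 : ∑ l : ZMod m, ez ζ (a * l) * conj ((ψ : DihedralGroup m → ℂ) (r l)) = (m : ℂ) * k := by
    rw [← hk, classInner, Nat.card_congr Multiplicative.toAdd, Nat.card_zmod, ← mul_assoc,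
      mul_inv_cancel₀ (Nat.cast_ne_zero.2 (NeZero.ne m)), one_mul]
    exact (Fintype.sum_equiv Multiplicative.toAdd _ _ fun x => rfl).symm
  have h2 : ∑ l : ZMod m, ez ζ (-(a * l)) * conj ((ψ : DihedralGroup m → ℂ) (r l)) = (m : ℂ) * k := by
    rw [← h1, ← Equiv.sum_comp (Equiv.neg (ZMod m))]
    refine Finset.sum_congr rfl fun l _ => ?_
    have hψ := irr_isClassFunction ψ (r l) (sr 0)
    simp only [Equiv.neg_apply, mul_neg, neg_neg]
    rw [← hψ]
    simp
  simp only [theta, add_mul, Finset.sum_add_distrib, h1, h2]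
  push_cast
  ring

theorem isGeneralizedCharacter_restrict (hM : IsPModular 2 M) (hζ : IsPrimitiveRoot ζ m)
    (a b : ZMod m) :
    IsGeneralizedCharacter (DihedralGroup m) (fun q => Phi d M (tdiff ζ a b) (d.ι q)) := by
  refine isGeneralizedCharacter_iff_classInner_int.mpr
    ⟨fun x c => by simp only [map_mul, map_inv]; exact isClassFunction_Phi _ _ _, fun ψ => ?_⟩

  set f := tdiff ζ a b
  obtain ⟨t, ht⟩ : ∃ t : ℤ, f (DihSylow.half m) = 4 * (t : ℂ) := by
    simp only [f, tdiff]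
    rcases theta_half_cases hζ d.half_add a with h | h <;>
      rcases theta_half_cases hζ d.half_add b with h' | h' <;> rw [h, h']
    · exact ⟨0, by norm_num⟩
    · exact ⟨1, by norm_num⟩
    · exact ⟨-1, by norm_num⟩
    · exact ⟨0, by norm_num⟩
  have hsr : ∀ i : ZMod m, ∃ u : ℤ,
      Phi d M f (d.ι (sr i)) * conj ((ψ : DihedralGroup m → ℂ) (sr i)) = 4 * (u : ℂ) := by
    intro i
    obtain ⟨u, hu⟩ := exists_int_apply_involution (t := (sr i : DihedralGroup m)) (sr_mul_self i) ψ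
    have hp := isPPart_self (G := G) (z := d.ι (sr i)) ⟨1, by rw [d.orderOf_sr, pow_one]⟩
    by_cases hc : IsConj (d.ι (sr i)) (d.ι (r (DihSylow.half m)))
    · refine ⟨t * u, ?_⟩
      rw [Phi_of_section hM (f := f) (tdiff_neg a b) hp d.half_ne hc, ht, ← hu, map_intCast]
      push_cast; ring
    · refine ⟨0, ?_⟩
      rw [Phi_of_not_section hM f hp fun l hl h => hc ?_]
      · simp
      · obtain ⟨c, hc'⟩ := isConj_iff.1 h
        rw [← d.invol_rot (by rw [← hc', orderOf_conj_eq, d.orderOf_sr]) (d.mem_rot.2 ⟨l, rfl⟩)]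
        exact h
  obtain ⟨u0, hu0⟩ := hsr 0
  obtain ⟨u1, hu1⟩ := hsr 1
  obtain ⟨ka, hka⟩ := exists_int_conj_sum hζ ψ a
  obtain ⟨kb, hkb⟩ := exists_int_conj_sum hζ ψ b
  refine ⟨ka - kb + (u0 + u1), ?_⟩
  have hbij : Function.Bijective (Sum.elim (r : ZMod m → DihedralGroup m) sr) := by
    refine ⟨?_, ?_⟩
    · rintro (x | x) (y | y) h <;> simp_all
    · rintro (x | x)
      · exact ⟨Sum.inl x, rfl⟩
      · exact ⟨Sum.inr x, rfl⟩
  have hper : ∀ i : ZMod m, Phi d M f (d.ι (sr (i + 1 + 1))) * conj ((ψ : DihedralGroup m → ℂ) (sr (i + 1 + 1))) =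
      Phi d M f (d.ι (sr i)) * conj ((ψ : DihedralGroup m → ℂ) (sr i)) := by
    intro i
    have e : (r 1 : DihedralGroup m) * sr (i + 1 + 1) * (r 1)⁻¹ = sr i := by simp
    rw [← irr_isClassFunction ψ (sr (i + 1 + 1)) (r 1), e, ← isClassFunction_Phi f (d.ι (sr (i + 1 + 1)))
      (d.ι (r 1)), ← map_inv, ← map_mul, ← map_mul, e]
  have h2 := two_mul_sum_periodic (fun i : ZMod m =>
    Phi d M f (d.ι (sr i)) * conj ((ψ : DihedralGroup m → ℂ) (sr i))) hper
  rw [hu0, hu1] at h2
  rw [classInner, DihedralGroup.nat_card, ← hbij.sum_comp, Fintype.sum_sum_type]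
  simp only [Sum.elim_inl, Sum.elim_inr]
  rw [show (∑ l, Phi d M f (d.ι (r l)) * conj ((ψ : DihedralGroup m → ℂ) (r l))) =
      ∑ l, f l * conj ((ψ : DihedralGroup m → ℂ) (r l)) from Finset.sum_congr rfl fun l _ => by
    rw [Phi_rot hM (tdiff_neg a b) (tdiff_zero a b)]]
  simp only [f, tdiff, sub_mul, Finset.sum_sub_distrib]
  rw [hka, hkb, inv_mul_eq_iff_eq_mul₀ (by simp [NeZero.ne m])]
  push_cast
  linear_combination h2 / 2

theorem isGeneralizedCharacter_Phi (hM : IsPModular 2 M) (hζ : IsPrimitiveRoot ζ m) (a b : ZMod m) :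
    IsGeneralizedCharacter G (Phi d M (tdiff ζ a b)) := by
  haveI : Fact (Nat.Prime 2) := ⟨Nat.prime_two⟩
  set F := Phi d M (tdiff ζ a b) with hF
  refine isGeneralizedCharacter_of_elementary (isClassFunction_Phi _) fun E p hp hE => ?_
  haveI := Fintype.ofFinite E
  obtain ⟨v, n, hn, he⟩ := Nat.exists_eq_pow_mul_and_not_dvd (Nat.card_pos (α := E)).ne' 2 (by norm_num)
  have hcop : Nat.Coprime (2 ^ v) n := (Nat.prime_two.coprime_iff_not_dvd.2 hn).pow_left v
  obtain ⟨A, B, hA, hB, hAB, hcompl⟩ : ∃ A B : Subgroup E, Nat.card A ∣ n ∧ Nat.card B ∣ 2 ^ v ∧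
      (∀ x ∈ A, ∀ y ∈ B, Commute x y) ∧ Subgroup.IsComplement' A B := by
    by_cases h2 : p = 2
    · subst h2
      exact exists_split hp hE (by rw [he, mul_comm]) hcop.symm hn
    · obtain ⟨Z, K, h1, h3, h4, h5⟩ := exists_split hp hE he.dvd hcop
        (fun h => h2 ((Nat.prime_dvd_prime_iff_eq hp Nat.prime_two).1 (hp.dvd_of_dvd_pow h)))
      exact ⟨K, Z, h3, h1, fun x hx y hy => (h4 y hy x hx).symm, h5.symm⟩
  have hcm : ∀ (x : A) (y : B), Commute (A.subtype x) (B.subtype y) := fun x y => hAB _ x.2 _ y.2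
  have hbijC : Function.Bijective (MonoidHom.noncommCoprod A.subtype B.subtype hcm) := hcompl
  let pr : E →* B := (MonoidHom.snd A B).comp
    (MulEquiv.ofBijective (MonoidHom.noncommCoprod A.subtype B.subtype hcm) hbijC).symm.toMonoidHom
  have hval : ∀ e : E, F (e : G) = F (((pr e : B) : E) : G) := by
    intro e
    obtain ⟨⟨x, y⟩, rfl⟩ := hcompl.2 e
    have hpr : pr ((x : E) * (y : E)) = y := by
      show ((MulEquiv.ofBijective _ hbijC).symm _).2 = y
      rw [show (x : E) * (y : E) = MulEquiv.ofBijective (MonoidHom.noncommCoprod A.subtype B.subtype hcm)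
        hbijC (x, y) from rfl, MulEquiv.symm_apply_apply]
    show F (((x : E) * (y : E) : E) : G) = _
    rw [hpr]
    have hy2 : ∃ k : ℕ, orderOf ((y : E) : G) = 2 ^ k := by
      obtain ⟨k, -, hk⟩ := (Nat.dvd_prime_pow Nat.prime_two).1 ((orderOf_dvd_natCard y).trans hB)
      exact ⟨k, by rw [Subgroup.orderOf_coe, Subgroup.orderOf_coe, hk]⟩
    have hpart : IsPPart 2 (((x : E) * (y : E) : E) : G) ((y : E) : G) := by
      refine ⟨((x : E) : G), ?_, congrArg Subtype.val (hcm x y).symm.eq, hy2, ?_⟩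
      · exact congrArg Subtype.val (hcm x y).symm.eq
      · rw [Subgroup.orderOf_coe, Subgroup.orderOf_coe]
        exact fun h => hn (h.trans ((orderOf_dvd_natCard x).trans hA))
    have hself := isPPart_self hy2
    by_cases hex : ∃ l : ZMod m, l ≠ 0 ∧ IsConj ((y : E) : G) (d.ι (r l))
    · obtain ⟨l, hl, hc⟩ := hex
      rw [hF, Phi_of_section hM (tdiff_neg a b) hpart hl hc,
        Phi_of_section hM (tdiff_neg a b) hself hl hc]
    · rw [hF, Phi_of_not_section hM _ hpart fun l hl h => hex ⟨l, hl, h⟩,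
        Phi_of_not_section hM _ hself fun l hl h => hex ⟨l, hl, h⟩]
  obtain ⟨j, hj⟩ : ∃ j : ℕ, Nat.card B = 2 ^ j :=
    ((Nat.dvd_prime_pow Nat.prime_two).1 hB).imp fun k h => h.2
  obtain ⟨Q, hQ⟩ := (((IsPGroup.of_card hj).map E.subtype)).exists_le_sylow
  obtain ⟨c, hc⟩ := MulAction.exists_smul_eq G Q d.S
  have hin : ∀ y : B, c * ((y : E) : G) * c⁻¹ ∈ d.ι.range := fun y => by
    rw [d.range_eq, ← hc]; exact ⟨_, hQ ⟨y, y.2, rfl⟩, rfl⟩
  let φ : E →* DihedralGroup m := (MonoidHom.ofInjective d.inj).symm.toMonoidHom.comp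
    (((((MulAut.conj c).toMonoidHom.comp E.subtype).comp B.subtype).codRestrict d.ι.range hin).comp pr)
  have h := IsGeneralizedCharacter.comp (isGeneralizedCharacter_restrict (d := d) hM hζ a b) φ
  have hfun : (fun e : E => F e) = (fun q => F (d.ι q)) ∘ φ := by
    funext e
    show F e = F (d.ι ((MonoidHom.ofInjective d.inj).symm _))
    rw [MonoidHom.apply_ofInjective_symm, hval e]
    exact (isClassFunction_Phi _ _ c).symm
  rw [hfun]
  exact h

/-- The inner products. -/
theorem classInner_Phi_tdiff (hM : IsPModular 2 M) (hζ : IsPrimitiveRoot ζ m) (a b a' b' : ZMod m) :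
    classInner (Phi d M (tdiff ζ a b)) (Phi d M (tdiff ζ a' b')) =
      (((if a = a' then 1 else 0) + (if a = -a' then 1 else 0) -
        ((if a = b' then 1 else 0) + (if a = -b' then 1 else 0)) -
        ((if b = a' then 1 else 0) + (if b = -a' then 1 else 0)) +
        ((if b = b' then 1 else 0) + (if b = -b' then 1 else 0)) : ℤ) : ℂ) := by
  rw [classInner_Phi_Phi hM (tdiff_neg a b) (tdiff_zero a b)]
  simp only [tdiff, map_sub, conj_theta hζ, sub_mul, mul_sub, Finset.sum_sub_distrib,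
    sum_theta_mul_theta hζ]
  have hm : (m : ℂ) ≠ 0 := Nat.cast_ne_zero.2 (NeZero.ne m)
  push_cast
  field_simp
  ring

theorem exists_int_cf (hM : IsPModular 2 M) (hζ : IsPrimitiveRoot ζ m) (a b : ZMod m)
    (χ : IrrCharacter G) : ∃ k : ℤ, cf d M (tdiff ζ a b) χ = k := by
  obtain ⟨k, hk⟩ := (isGeneralizedCharacter_iff_classInner_int.1
    (isGeneralizedCharacter_Phi (d := d) hM hζ a b)).2 χ
  exact ⟨k, by rw [← classInner_Phi, hk]⟩

/-- Fourier inversion. -/
theorem wv_eq_sum (hζ : IsPrimitiveRoot ζ m) (χ : IrrCharacter G) {l : ZMod m} (hl : l ≠ 0) :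
    wv d M χ l = ∑ s, cf d M (tdiff ζ s 1) χ * ez ζ (s * l) := by
  have e : ∀ s : ZMod m, cf d M (tdiff ζ s 1) χ * ez ζ (s * l) = (2 * (m : ℂ))⁻¹ *
      ∑ k, conj (wv d M χ k) * (theta ζ s k * ez ζ (s * l) - theta ζ 1 k * ez ζ (s * l)) := fun s => by
    rw [cf, mul_assoc, Finset.sum_mul]
    exact congrArg _ (Finset.sum_congr rfl fun k _ => by rw [tdiff]; ring)
  rw [Finset.sum_congr rfl fun s _ => e s, ← Finset.mul_sum, Finset.sum_comm]
  simp only [← Finset.mul_sum, Finset.sum_sub_distrib, sum_ez_mul hζ, hl, if_false, mul_zero,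
    sub_zero, sum_theta_mul_ez hζ, mul_add, mul_ite, Finset.sum_add_distrib, Finset.sum_ite_eq',
    Finset.mem_univ, if_true, conj_wv, wv_neg]
  have hm : (m : ℂ) ≠ 0 := Nat.cast_ne_zero.2 (NeZero.ne m)
  field_simp
  ring

end Integral

end Cfsg.Agent.Lib.DihedralBlock
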