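import Cfsg.Agent.Lib.DihedralBlock.Main

/-!
# Presenting a dihedral Sylow 2-subgroup by a rotation and a reflection
-/

set_option autoImplicit false
set_option linter.style.haveILetI false

namespace Cfsg.Agent.Lib.DihedralBlock

open Cfsg.Agent.Lib.Involutions DihedralGroup

universe u

variable {G : Type u} [Group G] {m : ℕ}

theorem exists_dihedralHom [NeZero m] {σ τ : G} (hσ : orderOf σ = m) (hτ : orderOf τ = 2)
    (hrel : τ * σ * τ⁻¹ = σ⁻¹) (hnot : τ ∉ Subgroup.zpowers σ) :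
    ∃ f : DihedralGroup m →* G, Function.Injective f ∧ (∀ l : ℕ, f (r (l : ZMod m)) = σ ^ l) ∧
      f (sr 0) = τ ∧ f.range = Subgroup.closure {σ, τ} := by
  have hmod : ∀ k : ℕ, σ ^ (k % m) = σ ^ k := fun k => by rw [← hσ, pow_mod_orderOf]
  have hfs : ∀ l : ℕ, σ ^ ((l : ZMod m)).val = σ ^ l := fun l => by
    rw [ZMod.val_natCast, hmod]
  have hadd : ∀ i j : ZMod m, σ ^ (i + j).val = σ ^ i.val * σ ^ j.val := fun i j => by
    rw [← pow_add, ZMod.val_add, hmod]
  have hsub : ∀ i j : ZMod m, σ ^ (j - i).val = (σ ^ i.val)⁻¹ * σ ^ j.val := fun i j => by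
    rw [eq_inv_mul_iff_mul_eq, ← hadd, add_sub_cancel]
  have hτ2 : τ * τ = 1 := by rw [← pow_two, ← hτ, pow_orderOf_eq_one]
  have hτi : τ⁻¹ = τ := inv_eq_of_mul_eq_one_right hτ2
  have hswap : ∀ i : ℕ, σ ^ i * τ = τ * (σ ^ i)⁻¹ := by
    intro i
    have h : τ * σ ^ i * τ⁻¹ = (σ ^ i)⁻¹ := by rw [← conj_pow, hrel, inv_pow]
    rw [← h, hτi, ← mul_assoc, ← mul_assoc, hτ2, one_mul]
  let f : DihedralGroup m →* G :=
    { toFun := fun g => match g with
        | r k => σ ^ k.val
        | sr k => τ * σ ^ k.val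
      map_one' := show σ ^ (0 : ZMod m).val = 1 by simp
      map_mul' := fun a b => by
        cases a with
        | r i => cases b with
          | r j => show σ ^ (i + j).val = _; exact hadd i j
          | sr j => show τ * σ ^ (j - i).val = σ ^ i.val * (τ * σ ^ j.val)
                    rw [← mul_assoc, hswap, mul_assoc, hsub]
        | sr i => cases b with
          | r j => show τ * σ ^ (i + j).val = τ * σ ^ i.val * σ ^ j.val
                   rw [hadd, mul_assoc]
          | sr j => show σ ^ (j - i).val = τ * σ ^ i.val * (τ * σ ^ j.val)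
                    rw [mul_assoc, ← mul_assoc (σ ^ i.val), hswap, mul_assoc, ← mul_assoc, hτ2, one_mul, hsub] }
  refine ⟨f, ?_, fun l => hfs l, ?_, ?_⟩
  · rw [← MonoidHom.ker_eq_bot_iff, Subgroup.eq_bot_iff_forall]
    intro g hg
    rw [MonoidHom.mem_ker] at hg
    cases g with
    | r k =>
      have h : σ ^ k.val = 1 := hg
      have h2 := orderOf_dvd_of_pow_eq_one h
      rw [hσ] at h2
      rw [(ZMod.val_eq_zero k).1 (Nat.eq_zero_of_dvd_of_lt h2 (ZMod.val_lt k)), one_def]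
    | sr k =>
      have h : τ * σ ^ k.val = 1 := hg
      exact absurd (eq_inv_of_mul_eq_one_left h ▸ inv_mem (Subgroup.npow_mem_zpowers σ _)) hnot
  · show τ * σ ^ (0 : ZMod m).val = τ
    simp
  · refine le_antisymm ?_ ((Subgroup.closure_le _).2 ?_)
    · rintro _ ⟨g, rfl⟩
      have hσm : σ ∈ Subgroup.closure ({σ, τ} : Set G) := Subgroup.subset_closure (by simp)
      have hτm : τ ∈ Subgroup.closure ({σ, τ} : Set G) := Subgroup.subset_closure (by simp)
      cases g with
      | r k => exact pow_mem hσm _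
      | sr k => exact mul_mem hτm (pow_mem hσm _)
    · rintro x (rfl | rfl)
      · exact ⟨r ((1 : ℕ) : ZMod m), (hfs 1).trans (pow_one _)⟩
      · exact ⟨sr 0, show x * σ ^ (0 : ZMod m).val = x by simp⟩

theorem reflection_not_mem {σ τ : G} (h4 : 4 ≤ orderOf σ) (hrel : τ * σ * τ⁻¹ = σ⁻¹) :
    τ ∉ Subgroup.zpowers σ := by
  intro h
  obtain ⟨k, rfl⟩ := Subgroup.mem_zpowers_iff.1 h
  rw [((Commute.refl σ).zpow_left k).eq, mul_inv_cancel_right] at hrel
  have h2 : σ ^ 2 = 1 := by rw [pow_two]; nth_rewrite 2 [hrel]; exact mul_inv_cancel σ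
  have := Nat.le_of_dvd (by norm_num) (orderOf_dvd_of_pow_eq_one h2)
  omega

/-- A rotation generating the cyclic maximal subgroup extends to a presentation. -/
theorem exists_dihSylow [Finite G] (P : Sylow 2 G) (hm : 4 ≤ m) (e : (P : Subgroup G) ≃* DihedralGroup m)
    {σ : G} (hσ : σ ∈ (P : Subgroup G)) (hσo : orderOf σ = m) :
    ∃ d : DihSylow G m, ∀ l : ℕ, d.ι (r (l : ZMod m)) = σ ^ l := by
  haveI : NeZero m := ⟨by omega⟩
  set τ : G := ((e.symm (sr 0) : (P : Subgroup G)) : G) with hτdef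
  have hτo : orderOf τ = 2 := by
    rw [hτdef, Subgroup.orderOf_coe, MulEquiv.orderOf_eq, DihedralGroup.orderOf_sr]
  obtain ⟨a, ha⟩ : ∃ a, e ⟨σ, hσ⟩ = r a := by
    cases hg : e ⟨σ, hσ⟩ with
    | r a => exact ⟨a, rfl⟩
    | sr a =>
      exfalso
      have := congrArg orderOf hg
      rw [MulEquiv.orderOf_eq, DihedralGroup.orderOf_sr, ← Subgroup.orderOf_coe] at this
      have h' : orderOf σ = 2 := this
      omega
  have hrel : τ * σ * τ⁻¹ = σ⁻¹ := by
    have h : e.symm (sr 0) * ⟨σ, hσ⟩ * (e.symm (sr 0))⁻¹ = (⟨σ, hσ⟩ : (P : Subgroup G))⁻¹ := by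
      apply e.injective
      rw [map_mul, map_mul, map_inv, map_inv, e.apply_symm_apply, ha]
      simp
    exact congrArg Subtype.val h
  obtain ⟨f, hf, hfr, -, hrange⟩ := exists_dihedralHom hσo hτo hrel (reflection_not_mem (hσo ▸ hm) hrel)
  refine ⟨⟨P, f, hf, ?_, by omega⟩, hfr⟩
  refine Subgroup.eq_of_le_of_card_ge ?_ ?_
  · rw [hrange, Subgroup.closure_le]
    rintro x (rfl | rfl)
    · exact hσ
    · exact (e.symm (sr 0)).2
  · rw [← Nat.card_congr (MonoidHom.ofInjective hf).toEquiv, Nat.card_congr e.toEquiv]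

end Cfsg.Agent.Lib.DihedralBlock
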