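import Cfsg.Agent.Lib.Blocks.HomocyclicTwo
import Cfsg.Agent.Lib.Involutions.DihedralFusion
import Cfsg.Agent.S0514

/-!
# Two-sections in a group with a dihedral Sylow 2-subgroup
-/

set_option autoImplicit false
set_option linter.unusedSectionVars false
set_option linter.style.haveILetI false

namespace Cfsg.Agent.Lib.DihedralBlock

open Cfsg Cfsg.Agent.Lib.Characters Cfsg.Agent.Lib.Blocks Cfsg.Agent.Lib.Cores
open Cfsg.Agent.Lib.Involutions DihedralGroup
open scoped ComplexConjugate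

universe u

/-- A group with a normal subgroup of odd order and 2-power index controls fusion in a Sylow
2-subgroup. -/
theorem conj_in_sylow_of_oddNormal {C : Type u} [Group C] [Finite C] (N : Subgroup C) [N.Normal]
    (hN : Odd (Nat.card N)) {k : ℕ} (hk : N.index = 2 ^ k) (S : Sylow 2 C) {s t g : C}
    (hs : s ∈ (S : Subgroup C)) (ht : t ∈ (S : Subgroup C)) (hg : g * s * g⁻¹ = t) :
    ∃ c ∈ (S : Subgroup C), c * s * c⁻¹ = t := by
  haveI : Fact (Nat.Prime 2) := ⟨Nat.prime_two⟩
  have htop : (S : Subgroup C) ⊔ N = ⊤ := by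
    refine Subgroup.index_eq_one.mp ?_
    have h1 := Subgroup.index_dvd_of_le (le_sup_left : (S : Subgroup C) ≤ (S : Subgroup C) ⊔ N)
    have h2 := Subgroup.index_dvd_of_le (le_sup_right : N ≤ (S : Subgroup C) ⊔ N)
    rw [hk] at h2
    obtain ⟨j, -, hj⟩ := (Nat.dvd_prime_pow Nat.prime_two).mp h2
    rw [hj] at h1 ⊢
    by_contra hne
    exact S.not_dvd_index ((dvd_pow_self 2 fun h => hne (by rw [h, pow_zero])).trans h1)
  obtain ⟨c, hc, n, hn, rfl⟩ := Subgroup.mem_sup_of_normal_right.mp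
    (show g ∈ (S : Subgroup C) ⊔ N by rw [htop]; trivial)
  refine ⟨c, hc, ?_⟩
  have hS : n * s * n⁻¹ * s⁻¹ ∈ (S : Subgroup C) := by
    refine mul_mem ?_ (inv_mem hs)
    have e : n * s * n⁻¹ = c⁻¹ * t * c := by rw [← hg]; group
    rw [e]
    exact mul_mem (mul_mem (inv_mem hc) ht) hc
  have hN' : n * s * n⁻¹ * s⁻¹ ∈ N := by
    rw [show n * s * n⁻¹ * s⁻¹ = n * (s * n⁻¹ * s⁻¹) by group]
    exact mul_mem hn (Subgroup.Normal.conj_mem inferInstance _ (inv_mem hn) s)
  obtain ⟨j, hj⟩ := IsPGroup.iff_card.mp S.2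
  have h1 := Subgroup.orderOf_dvd_natCard _ hS
  rw [hj] at h1
  have h2 := Subgroup.orderOf_dvd_natCard _ hN'
  have h3 : n * s * n⁻¹ * s⁻¹ = 1 := orderOf_eq_one_iff.mp (Nat.eq_one_of_dvd_coprimes
    ((Nat.coprime_two_left.mpr hN).pow_left j) h1 h2)
  rw [mul_inv_eq_one] at h3
  calc c * s * c⁻¹ = c * (n * s * n⁻¹) * c⁻¹ := by rw [h3]
    _ = t := by rw [← hg]; group

/-- A normal 2-complement passes to subgroups. -/
theorem exists_index_pPrimeCore_of_le {G : Type u} [Group G] [Finite G] {A B : Subgroup G}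
    (hAB : A ≤ B) (N : Subgroup B) [N.Normal] (hN : Odd (Nat.card N)) {k : ℕ}
    (hk : N.index = 2 ^ k) :
    (pPrimeCore 2 A).index = 2 ^ (Nat.card A).factorization 2 := by
  haveI : Fact (Nat.Prime 2) := ⟨Nat.prime_two⟩
  set f := (QuotientGroup.mk' N).comp (Subgroup.inclusion hAB)
  have hidx : f.ker.index ∣ 2 ^ k := by
    rw [Subgroup.index_ker, ← hk, Subgroup.index_eq_card]
    exact Subgroup.card_subgroup_dvd_card _
  have hcard : Nat.card f.ker ∣ Nat.card N := by
    refine Subgroup.card_dvd_of_injective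
      ((((Subgroup.inclusion hAB).comp f.ker.subtype).codRestrict N fun a =>
        (QuotientGroup.eq_one_iff _).mp a.2)) ?_
    intro a b h
    exact Subtype.ext (Subgroup.inclusion_injective hAB (congrArg Subtype.val h))
  have hodd : ¬ 2 ∣ Nat.card f.ker := fun h => by
    have := h.trans hcard
    exact (Nat.not_even_iff_odd.mpr hN) (even_iff_two_dvd.mpr this)
  have hle : f.ker ≤ pPrimeCore 2 A :=
    le_pPrimeCore (MonoidHom.normal_ker f) ((Nat.prime_two.coprime_iff_not_dvd.2 hodd).symm)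
  obtain ⟨j, -, hj⟩ := (Nat.dvd_prime_pow Nat.prime_two).mp
    ((Subgroup.index_dvd_of_le hle).trans hidx)
  rw [hj]
  congr 1
  have hcore : ¬ 2 ∣ Nat.card (pPrimeCore 2 A) := not_dvd_card_pPrimeCore
  rw [← Subgroup.card_mul_index (pPrimeCore 2 A), hj,
    Nat.factorization_mul Nat.card_pos.ne' (by positivity), Nat.prime_two.factorization_pow]
  simp [Nat.factorization_eq_zero_of_not_dvd hcore]

section Section

variable {G : Type u} [Group G] [Fintype G] {M : Ideal AlgInt} [hMp : M.IsPrime] {p : ℕ}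
  [Fact p.Prime]

/-- Column orthogonality between an element and a `p`-element with `p`-nilpotent centralizer. -/
theorem sum_principal_mul_conj_section [Fintype (IrrCharacter G)]
    [DecidablePred (· ∈ principalBlock M G)] (hM : IsPModular p M) {x g : G}
    (hx : ∃ k : ℕ, orderOf x = p ^ k) {k : ℕ}
    (hk : (pPrimeCore p (Subgroup.centralizer ({x} : Set G))).index = p ^ k) :
    ∑ χ : IrrCharacter G, (if χ ∈ principalBlock M G then (χ : G → ℂ) g * conj ((χ : G → ℂ) x) else 0) =
      (open scoped Classical in if ∃ v, IsPPart p g v ∧ IsConj v x then ((p ^ k : ℕ) : ℂ) else 0) := by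
  classical
  obtain ⟨v, hv⟩ := exists_isPPart hM.1 g
  have h1 : IsPPart p x x := ⟨1, mul_one x, Commute.one_right x, hx,
    by rw [orderOf_one, Nat.dvd_one]; exact hM.1.ne_one⟩
  by_cases hc : IsConj v x
  · rw [if_pos ⟨v, hv, hc⟩]
    obtain ⟨c, rfl⟩ := isConj_iff.1 hc
    obtain ⟨y, hy, hvy, hvk, hpy⟩ := hv
    have h := sum_principal_mul_conj (x := c * v * c⁻¹) (x' := c * v * c⁻¹) hM hx hx hk
    rw [if_pos (IsConj.refl _)] at h
    rw [← h]
    refine Finset.sum_congr rfl fun χ _ => ?_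
    split_ifs with hχ
    · congr 1
      have hcy : c * y * c⁻¹ ∈ Subgroup.centralizer ({c * v * c⁻¹} : Set G) :=
        Subgroup.mem_centralizer_singleton_iff.2 (hvy.symm.map (MulAut.conj c)).eq
      have hmem : (⟨c * y * c⁻¹, hcy⟩ : Subgroup.centralizer ({c * v * c⁻¹} : Set G)) ∈
          pPrimeCore p (Subgroup.centralizer ({c * v * c⁻¹} : Set G)) := by
        haveI : (pPrimeCore p (Subgroup.centralizer ({c * v * c⁻¹} : Set G))).Normal :=
          (pPrimeCore_mem p _).1
        rw [← QuotientGroup.eq_one_iff, ← orderOf_eq_one_iff]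
        refine Nat.eq_one_of_dvd_coprimes ((hM.1.coprime_iff_not_dvd.2 hpy).pow_left k) ?_ ?_
        · rw [← hk, Subgroup.index_eq_card]; exact orderOf_dvd_natCard _
        · refine (orderOf_map_dvd (QuotientGroup.mk' _) _).trans ?_
          rw [← Subgroup.orderOf_coe, Subgroup.coe_mk, ← MulAut.conj_apply, MulEquiv.orderOf_eq]
      rw [← Cfsg.Agent.S0942.result p M hM _ hx (c * y * c⁻¹) ⟨_, hmem, rfl⟩ χ hχ,
        ← irr_isClassFunction χ g c, ← hy]
      congr 1
      group
    · rfl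
  · rw [if_neg fun ⟨w, hw, hwc⟩ => hc (isPPart_unique hM.1 hv hw ▸ hwc),
      ← finsum_irr_eq_sum_ite (principalBlock M G)]
    exact finsum_mul_conj_eq_zero hM isPBlock_principalBlock hv h1 (Or.inl hc)

end Section

section Dihedral

variable {G : Type u} [Group G] [Finite G] {m : ℕ} (d : DihSylow G m)

theorem card_rot : Nat.card d.rot = m := by
  have := d.neZero
  rw [DihSylow.rot, Subgroup.card_map_of_injective d.inj, Nat.card_zpowers, orderOf_r_one]

theorem exists_two_pow_orderOf {z : G} (hz : z ∈ (d.S : Subgroup G)) : ∃ k : ℕ, orderOf z = 2 ^ k := by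
  obtain ⟨k, hk⟩ := (IsPGroup.iff_orderOf.mp d.S.2) ⟨z, hz⟩
  exact ⟨k, by rw [← hk, ← Subgroup.orderOf_coe]⟩

theorem exists_involution_power {z : G} (hz : ∃ k : ℕ, orderOf z = 2 ^ k) (hz1 : z ≠ 1) :
    ∃ e : ℕ, orderOf (z ^ e) = 2 := by
  obtain ⟨k, hk⟩ := hz
  obtain ⟨j, rfl⟩ : ∃ j, k = j + 1 := ⟨k - 1, by
    rcases k with _ | k
    · exact absurd (orderOf_eq_one_iff.mp (by rw [hk, pow_zero])) hz1
    · omega⟩
  refine ⟨2 ^ j, ?_⟩
  rw [orderOf_pow_of_dvd (by positivity) (hk ▸ pow_dvd_pow 2 j.le_succ), hk,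
    Nat.pow_div j.le_succ two_pos, show j + 1 - j = 1 by omega, pow_one]

include d in
/-- Every nonidentity 2-element has a 2-nilpotent centralizer. -/
theorem index_pPrimeCore_centralizer {z : G} (hz : ∃ k : ℕ, orderOf z = 2 ^ k) (hz1 : z ≠ 1) :
    (pPrimeCore 2 (Subgroup.centralizer ({z} : Set G))).index =
      2 ^ (Nat.card (Subgroup.centralizer ({z} : Set G))).factorization 2 := by
  obtain ⟨e, he⟩ := exists_involution_power hz hz1
  obtain ⟨N, hN, hodd, k, hk⟩ := Cfsg.Agent.S0514.result d.S m d.two_le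
    ⟨((MulEquiv.subgroupCongr d.range_eq).symm.trans (MonoidHom.ofInjective d.inj).symm)⟩ (z ^ e) he
  refine exists_index_pPrimeCore_of_le ?_ N hodd hk
  intro c hc
  rw [Subgroup.mem_centralizer_singleton_iff] at hc ⊢
  exact (Commute.pow_right (show Commute c z from hc) e).eq

theorem r_ne_one {a : ZMod m} (ha : a ≠ 0) : d.ι (r a) ≠ 1 := fun h => ha (by
  rw [← map_one d.ι, one_def] at h; exact r.inj (d.inj h))

theorem exists_pow_eq_half {a : ZMod m} (ha : a ≠ 0) :
    ∃ e : ℕ, d.ι (r a) ^ e = d.ι (r (DihSylow.half m)) ∧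
      ∀ b : ZMod m, orderOf (d.ι (r b)) = orderOf (d.ι (r a)) →
        d.ι (r b) ^ e = d.ι (r (DihSylow.half m)) := by
  have := d.neZero
  obtain ⟨k, hk⟩ := exists_two_pow_orderOf d (d.ι_mem (r a))
  obtain ⟨j, rfl⟩ : ∃ j, k = j + 1 := ⟨k - 1, by
    rcases k with _ | k
    · exact absurd (orderOf_eq_one_iff.mp (by rw [hk, pow_zero])) (r_ne_one d ha)
    · omega⟩
  have key : ∀ b : ZMod m, orderOf (d.ι (r b)) = 2 ^ (j + 1) →
      d.ι (r b) ^ (2 ^ j) = d.ι (r (DihSylow.half m)) := fun b hb => by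
    refine d.invol_rot ?_ (pow_mem (d.mem_rot.2 ⟨b, rfl⟩) _)
    rw [orderOf_pow_of_dvd (by positivity) (hb ▸ pow_dvd_pow 2 j.le_succ), hb,
      Nat.pow_div j.le_succ two_pos, show j + 1 - j = 1 by omega, pow_one]
  exact ⟨2 ^ j, key a hk, fun b hb => key b (hb.trans hk)⟩

theorem mul_r_mul_inv (g : DihedralGroup m) (a : ZMod m) :
    g * r a * g⁻¹ = r a ∨ g * r a * g⁻¹ = r (-a) := by
  cases g with
  | r j => left; simp
  | sr j => right; simp

/-- Fusion of rotations. -/
theorem eq_or_eq_neg_of_isConj {a b : ZMod m} (ha : a ≠ 0)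
    (h : IsConj (d.ι (r a)) (d.ι (r b))) : b = a ∨ b = -a := by
  obtain ⟨g, hg⟩ := isConj_iff.1 h
  obtain ⟨e, he, he'⟩ := exists_pow_eq_half d ha
  have heb := he' b (by rw [← hg, orderOf_conj_eq])
  set J := d.ι (r (DihSylow.half m)) with hJ
  have hgC : g ∈ Subgroup.centralizer ({J} : Set G) := by
    rw [Subgroup.mem_centralizer_singleton_iff, ← mul_inv_eq_iff_eq_mul]
    calc g * J * g⁻¹ = (g * d.ι (r a) * g⁻¹) ^ e := by rw [conj_pow, he]
      _ = J := by rw [hg, heb]
  have hSC : (d.S : Subgroup G) ≤ Subgroup.centralizer ({J} : Set G) := fun x hx =>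
    Subgroup.mem_centralizer_singleton_iff.2 (d.half_central hx).symm.eq
  obtain ⟨N, hN, hodd, k, hk⟩ := Cfsg.Agent.S0514.result d.S m d.two_le
    ⟨((MulEquiv.subgroupCongr d.range_eq).symm.trans (MonoidHom.ofInjective d.inj).symm)⟩ J
    d.orderOf_half
  obtain ⟨c, hc, hc'⟩ := conj_in_sylow_of_oddNormal N hodd hk (d.S.subtype hSC)
    (s := ⟨d.ι (r a), hSC (d.ι_mem _)⟩) (t := ⟨d.ι (r b), hSC (d.ι_mem _)⟩) (g := ⟨g, hgC⟩)
    (d.ι_mem (r a)) (d.ι_mem (r b)) (Subtype.ext hg)
  obtain ⟨q, hq⟩ := d.exists_ι (show (c : G) ∈ (d.S : Subgroup G) from hc)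
  have h1 : d.ι (q * r a * q⁻¹) = d.ι (r b) := by
    rw [map_mul, map_mul, map_inv, hq]; exact congrArg Subtype.val hc'
  rcases mul_r_mul_inv q a with h2 | h2 <;> rw [h2] at h1
  · exact Or.inl (r.inj (d.inj h1)).symm
  · exact Or.inr (r.inj (d.inj h1)).symm

theorem isConj_r_neg (a : ZMod m) : IsConj (d.ι (r a)) (d.ι (r (-a))) :=
  isConj_iff.2 ⟨d.ι (sr 0), by rw [← map_inv, ← map_mul, ← map_mul]; simp⟩

theorem exists_isConj_mem_sylow {z : G} (hz : ∃ k : ℕ, orderOf z = 2 ^ k) :
    ∃ s ∈ (d.S : Subgroup G), IsConj z s ∧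
      2 ^ (Nat.card (Subgroup.centralizer ({z} : Set G))).factorization 2 ∣
        Nat.card ↥((d.S : Subgroup G) ⊓ Subgroup.centralizer ({s} : Set G)) := by
  haveI : Fact (Nat.Prime 2) := ⟨Nat.prime_two⟩
  set C := Subgroup.centralizer ({z} : Set G) with hC
  obtain ⟨T⟩ : Nonempty (Sylow 2 C) := inferInstance
  let z' : C := ⟨z, Subgroup.mem_centralizer_singleton_iff.2 rfl⟩
  have hzc : z' ∈ Subgroup.center C := Subgroup.mem_center_iff.2 fun c =>
    Subtype.ext (Subgroup.mem_centralizer_singleton_iff.1 c.2)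
  haveI : (Subgroup.zpowers z').Normal := ⟨fun x hx g => by
    rw [Subgroup.mem_center_iff.1 (Subgroup.zpowers_le.2 hzc hx) g, mul_inv_cancel_right]
    exact hx⟩
  haveI := Fintype.ofFinite C
  have hzT : z' ∈ (T : Subgroup C) := pCore_le_sylow T
    (le_pCore (N := Subgroup.zpowers z') inferInstance (isPGroup_zpowers_of_orderOf
      (by obtain ⟨k, hk⟩ := hz; exact ⟨k, by rw [← hk, ← Subgroup.orderOf_coe]⟩))
      (Subgroup.mem_zpowers z'))
  obtain ⟨Q, hQ⟩ := (T.2.map C.subtype).exists_le_sylow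
  obtain ⟨c, hc⟩ := MulAction.exists_smul_eq G Q d.S
  have hin : ∀ t ∈ (T : Subgroup C), c * (t : G) * c⁻¹ ∈ (d.S : Subgroup G) := fun t ht => by
    rw [← hc]; exact ⟨_, hQ ⟨t, ht, rfl⟩, rfl⟩
  refine ⟨c * z * c⁻¹, hin z' hzT, isConj_iff.2 ⟨c, rfl⟩, ?_⟩
  rw [← Sylow.card_eq_multiplicity T]
  refine Subgroup.card_dvd_of_injective
    ((((MulAut.conj c).toMonoidHom.comp C.subtype).comp (T : Subgroup C).subtype).codRestrict _
      fun t => ⟨hin t.1 t.2, Subgroup.mem_centralizer_singleton_iff.2 ?_⟩) ?_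
  · exact ((show Commute ((t : C) : G) z from
      Subgroup.mem_centralizer_singleton_iff.1 t.1.2).map (MulAut.conj c)).eq
  · intro a b h
    exact Subtype.ext (Subtype.ext ((MulAut.conj c).injective (congrArg Subtype.val h)))

theorem card_dvd_of_le_sylow {z : G} (A : Subgroup G) (hA : A ≤ (d.S : Subgroup G))
    (hAC : A ≤ Subgroup.centralizer ({z} : Set G)) :
    Nat.card A ∣ 2 ^ (Nat.card (Subgroup.centralizer ({z} : Set G))).factorization 2 := by
  obtain ⟨j, hj⟩ := IsPGroup.iff_card.mp d.S.2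
  obtain ⟨i, -, hi⟩ := (Nat.dvd_prime_pow Nat.prime_two).mp
    (hj ▸ Subgroup.card_dvd_of_le hA)
  rw [hi]
  refine pow_dvd_pow 2 ((Nat.prime_two.pow_dvd_iff_le_factorization Nat.card_pos.ne').mp ?_)
  rw [← hi]
  exact Subgroup.card_dvd_of_le hAC

theorem inf_centralizer_rot {a : ZMod m} (ha : a + a ≠ 0) :
    (d.S : Subgroup G) ⊓ Subgroup.centralizer ({d.ι (r a)} : Set G) = d.rot := by
  refine le_antisymm (fun x hx => ?_) (fun x hx => ?_)
  · obtain ⟨g, rfl⟩ := d.exists_ι hx.1
    cases g with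
    | r j => exact d.mem_rot.2 ⟨j, rfl⟩
    | sr j =>
      exfalso
      have h := Subgroup.mem_centralizer_singleton_iff.1 hx.2
      rw [← map_mul, ← map_mul] at h
      exact ha (dihedral_commute_sr_r.1 (d.inj h))
  · obtain ⟨j, rfl⟩ := d.mem_rot.1 hx
    exact ⟨d.ι_mem _, Subgroup.mem_centralizer_singleton_iff.2
      (by rw [← map_mul, ← map_mul, r_mul_r, r_mul_r, add_comm])⟩

theorem pow_fact_rot_gen {a : ZMod m} (ha : a ≠ 0) (ha2 : a + a ≠ 0) :
    2 ^ (Nat.card (Subgroup.centralizer ({d.ι (r a)} : Set G))).factorization 2 = m := by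
  have := d.neZero
  refine Nat.dvd_antisymm ?_ ?_
  · obtain ⟨s, hs, hcs, hdvd⟩ := exists_isConj_mem_sylow d (exists_two_pow_orderOf d (d.ι_mem (r a)))
    obtain ⟨g, rfl⟩ := d.exists_ι hs
    cases g with
    | r b =>
      have hb : b + b ≠ 0 := by
        rcases eq_or_eq_neg_of_isConj d ha hcs with rfl | rfl
        · exact ha2
        · exact fun h => ha2 (by linear_combination -h)
      rwa [inf_centralizer_rot d hb, card_rot] at hdvd
    | sr i =>
      exfalso
      obtain ⟨c, hc⟩ := isConj_iff.1 hcs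
      have h2 : orderOf (d.ι (r a)) = 2 := by
        rw [← orderOf_conj_eq c, hc, d.orderOf_sr]
      have h3 := d.invol_rot h2 (d.mem_rot.2 ⟨a, rfl⟩)
      exact ha2 (by rw [r.inj (d.inj h3)]; exact d.half_add)
  · have h := card_dvd_of_le_sylow d (z := d.ι (r a)) d.rot d.rot_le
      (inf_centralizer_rot d ha2 ▸ inf_le_right)
    rwa [card_rot] at h

theorem pow_fact_half :
    2 ^ (Nat.card (Subgroup.centralizer ({d.ι (r (DihSylow.half m))} : Set G))).factorization 2 = 2 * m := by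
  refine Nat.dvd_antisymm ?_ ?_
  · obtain ⟨s, hs, -, hdvd⟩ := exists_isConj_mem_sylow d (exists_two_pow_orderOf d (d.ι_mem (r (DihSylow.half m))))
    exact hdvd.trans (d.card_S ▸ Subgroup.card_dvd_of_le inf_le_left)
  · have h := card_dvd_of_le_sylow d (z := d.ι (r (DihSylow.half m))) (d.S : Subgroup G) le_rfl
      (fun x hx => Subgroup.mem_centralizer_singleton_iff.2 (d.half_central hx).symm.eq)
    rwa [d.card_S] at h

/-- The centralizer index of a rotation. -/
theorem index_rotation {a : ZMod m} (ha : a ≠ 0) :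
    (pPrimeCore 2 (Subgroup.centralizer ({d.ι (r a)} : Set G))).index =
      if a + a = 0 then 2 * m else m := by
  rw [index_pPrimeCore_centralizer d (exists_two_pow_orderOf d (d.ι_mem _)) (r_ne_one d ha)]
  split_ifs with h
  · have := d.neZero
    rw [zmod_two_torsion_unique h ha d.half_add d.half_ne, pow_fact_half]
  · exact pow_fact_rot_gen d ha h

/-- The centralizer index of a reflection outside the class of the central rotation. -/
theorem index_reflection (i : ZMod m) (hi : ¬ IsConj (d.ι (sr i)) (d.ι (r (DihSylow.half m)))) :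
    (pPrimeCore 2 (Subgroup.centralizer ({d.ι (sr i)} : Set G))).index = 4 := by
  classical
  have := d.neZero
  have hcard : ∀ k : ZMod m,
      Nat.card ↥((d.S : Subgroup G) ⊓ Subgroup.centralizer ({d.ι (sr k)} : Set G)) = 4 := by
    intro k
    have hset : ((d.S : Subgroup G) : Set G) ∩ (Subgroup.centralizer ({d.ι (sr k)} : Set G) : Set G) =
        d.ι '' ({r 0, r (DihSylow.half m), sr k, sr (k + DihSylow.half m)} : Set (DihedralGroup m)) := by
      ext x
      constructor
      · rintro ⟨hx, hxc⟩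
        obtain ⟨g, rfl⟩ := d.exists_ι hx
        refine ⟨g, ?_, rfl⟩
        have h := Subgroup.mem_centralizer_singleton_iff.1 hxc
        rw [← map_mul, ← map_mul] at h
        have h' := d.inj h
        cases g with
        | r j =>
          have hj : j + j = 0 := dihedral_commute_sr_r.1 (h'.symm)
          by_cases hj0 : j = 0
          · simp [hj0]
          · simp [zmod_two_torsion_unique hj hj0 d.half_add d.half_ne]
        | sr j =>
          rw [sr_mul_sr, sr_mul_sr] at h'
          have hj : (j - k) + (j - k) = 0 := by linear_combination -(r.inj h')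
          by_cases hj0 : j - k = 0
          · simp [sub_eq_zero.1 hj0]
          · have := zmod_two_torsion_unique hj hj0 d.half_add d.half_ne
            simp [show j = k + DihSylow.half m by linear_combination this]
      · rintro ⟨g, hg, rfl⟩
        refine ⟨d.ι_mem g, Subgroup.mem_centralizer_singleton_iff.2 ?_⟩
        rw [← map_mul, ← map_mul]
        refine congrArg _ ?_
        rcases hg with rfl | rfl | rfl | rfl
        · simp
        · exact (dihedral_commute_sr_r.2 d.half_add).symm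
        · rfl
        · simp only [sr_mul_sr, r.injEq]; linear_combination -d.half_add
    rw [← SetLike.coe_sort_coe, Subgroup.coe_inf, hset, Nat.card_coe_set_eq,
      Set.ncard_image_of_injective _ d.inj, Set.ncard_insert_of_notMem, Set.ncard_insert_of_notMem,
      Set.ncard_pair]
    · intro h; exact d.half_ne (by linear_combination -(sr.inj h))
    · simp
    · simp only [Set.mem_insert_iff, Set.mem_singleton_iff, r.injEq, reduceCtorEq, or_false]
      exact fun h => d.half_ne h.symm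
  rw [index_pPrimeCore_centralizer d ⟨1, by rw [d.orderOf_sr, pow_one]⟩
    (fun h => by simpa [h] using d.orderOf_sr i)]
  refine Nat.dvd_antisymm ?_ ?_
  · obtain ⟨s, hs, hcs, hdvd⟩ := exists_isConj_mem_sylow d (z := d.ι (sr i))
      ⟨1, by rw [d.orderOf_sr, pow_one]⟩
    obtain ⟨c, hc⟩ := isConj_iff.1 hcs
    rcases d.invol_cases (show orderOf s = 2 by rw [← hc, orderOf_conj_eq, d.orderOf_sr]) hs with
      rfl | ⟨k, rfl⟩
    · exact absurd hcs hi
    · rwa [hcard k] at hdvd
  · have h := card_dvd_of_le_sylow d (z := d.ι (sr i))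
      ((d.S : Subgroup G) ⊓ Subgroup.centralizer ({d.ι (sr i)} : Set G)) inf_le_left inf_le_right
    rwa [hcard i] at h

/-- Nonidentity 2-elements are conjugate to a rotation or to one of two reflections. -/
theorem cases_two_element {z : G} (hz : ∃ k : ℕ, orderOf z = 2 ^ k) (hz1 : z ≠ 1) :
    (∃ a : ZMod m, a ≠ 0 ∧ IsConj z (d.ι (r a))) ∨
      ∃ i : ZMod m, (i = 0 ∨ i = 1) ∧ IsConj z (d.ι (sr i)) := by
  obtain ⟨s, hs, hcs, -⟩ := exists_isConj_mem_sylow d hz
  obtain ⟨g, rfl⟩ := d.exists_ι hs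
  cases g with
  | r a =>
    refine Or.inl ⟨a, ?_, hcs⟩
    rintro rfl
    rw [← one_def, map_one, isConj_one_left] at hcs
    exact hz1 hcs
  | sr i =>
    rcases d.isConj_sr i with h | h
    · exact Or.inr ⟨0, Or.inl rfl, hcs.trans h⟩
    · exact Or.inr ⟨1, Or.inr rfl, hcs.trans h⟩

end Dihedral

end Cfsg.Agent.Lib.DihedralBlock
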