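import Mathlib

/-!
# The supports of the basic integer vectors
-/

set_option autoImplicit false

namespace Cfsg.Agent.Lib.DihedralBlock

/-- An integer vector with squares summing to three has values `0, 1, -1`, three of them nonzero. -/
theorem card_support_three {ι : Type*} [Fintype ι] [DecidableEq ι] (u : ι → ℤ)
    (hu : ∑ i, u i * u i = 3) :
    (∀ i, u i = 0 ∨ u i = 1 ∨ u i = -1) ∧ (Finset.univ.filter fun i => u i ≠ 0).card = 3 := by
  have h1 : ∀ i, u i = 0 ∨ u i = 1 ∨ u i = -1 := by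
    intro i
    have h : u i * u i ≤ 3 := hu ▸
      Finset.single_le_sum (f := fun i => u i * u i) (fun j _ => mul_self_nonneg _) (Finset.mem_univ i)
    have h2 : -1 ≤ u i := by nlinarith
    have h3 : u i ≤ 1 := by nlinarith
    omega
  refine ⟨h1, ?_⟩
  have h : ((Finset.univ.filter fun i => u i ≠ 0).card : ℤ) = ∑ i, u i * u i := by
    rw [Finset.card_filter, Nat.cast_sum]
    refine Finset.sum_congr rfl fun i _ => ?_
    rcases h1 i with h | h | h <;> simp [h]
  omega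

/-- Brauer's shape of two norm-three vectors meeting in one place. -/
theorem support_shape {ι : Type*} [Fintype ι] [DecidableEq ι] (u v : ι → ℤ) (o : ι) (x : ι → ℤ)
    (hx : ∀ i, 0 < x i) (hxo : x o = 1) (huo : u o = 1) (hvo : v o = 0)
    (huu : ∑ i, u i * u i = 3) (hvv : ∑ i, v i * v i = 3) (huv : ∑ i, u i * v i = 1)
    (hux : ∑ i, u i * x i = 0) (hvx : ∑ i, v i * x i = 0) :
    ∃ a t b c, o ≠ a ∧ o ≠ t ∧ o ≠ b ∧ o ≠ c ∧ a ≠ t ∧ a ≠ b ∧ a ≠ c ∧ t ≠ b ∧ t ≠ c ∧ b ≠ c ∧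
      (u a = 1 ∨ u a = -1) ∧ (v b = 1 ∨ v b = -1) ∧ (v c = 1 ∨ v c = -1) ∧
      u t = -u a ∧ v t = u t ∧
      (∀ i, i ≠ o → i ≠ a → i ≠ t → u i = 0) ∧ (∀ i, i ≠ t → i ≠ b → i ≠ c → v i = 0) ∧
      u b = 0 ∧ u c = 0 ∧ v a = 0 := by
  obtain ⟨hu', hU⟩ := card_support_three u huu
  obtain ⟨hv', hV⟩ := card_support_three v hvv
  set U := Finset.univ.filter fun i => u i ≠ 0 with hUdef
  have hoU : o ∈ U := by simp [hUdef, huo]
  obtain ⟨p, q, hpq, hpqs⟩ := Finset.card_eq_two.mp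
    (show (U.erase o).card = 2 by rw [Finset.card_erase_of_mem hoU, hU])
  obtain ⟨hpo, hup⟩ : p ≠ o ∧ u p ≠ 0 := by
    have : p ∈ U.erase o := by rw [hpqs]; simp
    simpa [hUdef] using this
  obtain ⟨hqo, huq⟩ : q ≠ o ∧ u q ≠ 0 := by
    have : q ∈ U.erase o := by rw [hpqs]; simp
    simpa [hUdef] using this
  have hu0 : ∀ i, i ≠ o → i ≠ p → i ≠ q → u i = 0 := by
    intro i h1 h2 h3
    by_contra h
    have : i ∈ U.erase o := by simp [hUdef, h1, h]
    rw [hpqs] at this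
    simp [h2, h3] at this
  have hsum2 : u p * v p + u q * v q = 1 := by
    rw [← Finset.sum_subset (Finset.subset_univ ({o, p, q} : Finset ι)) (fun i _ hi => by
      simp only [Finset.mem_insert, Finset.mem_singleton, not_or] at hi
      rw [hu0 i hi.1 hi.2.1 hi.2.2, zero_mul]), Finset.sum_insert (by simp [hpo.symm, hqo.symm]),
      Finset.sum_pair hpq, huo, hvo] at huv
    linarith
  have hrel : 1 + u p * x p + u q * x q = 0 := by
    rw [← Finset.sum_subset (Finset.subset_univ ({o, p, q} : Finset ι)) (fun i _ hi => by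
      simp only [Finset.mem_insert, Finset.mem_singleton, not_or] at hi
      rw [hu0 i hi.1 hi.2.1 hi.2.2, zero_mul]), Finset.sum_insert (by simp [hpo.symm, hqo.symm]),
      Finset.sum_pair hpq, huo, hxo] at hux
    linarith
  obtain ⟨a, t, hat, hao, hto, hua, hut, hu0, hta, hva, hvt, hr⟩ : ∃ a t, a ≠ t ∧ a ≠ o ∧ t ≠ o ∧
      (u a = 1 ∨ u a = -1) ∧ u t ≠ 0 ∧ (∀ i, i ≠ o → i ≠ a → i ≠ t → u i = 0) ∧
      (u t = 1 ∨ u t = -1) ∧ v a = 0 ∧ v t = u t ∧ 1 + u a * x a + u t * x t = 0 := by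
    rcases hu' p with h | h | h <;> rcases hu' q with h' | h' | h' <;>
      rcases hv' p with k | k | k <;> rcases hv' q with k' | k' | k' <;>
      simp only [h, h', k, k'] at hsum2 hup huq <;>
      first
        | exact absurd rfl hup
        | exact absurd rfl huq
        | omega
        | exact ⟨p, q, hpq, hpo, hqo, by rw [h]; simp, by rw [h']; simp, hu0, by rw [h']; simp, k,
            by rw [h', k'], hrel⟩
        | exact ⟨q, p, hpq.symm, hqo, hpo, by rw [h']; simp, by rw [h]; simp,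
            fun i h1 h2 h3 => hu0 i h1 h3 h2, by rw [h]; simp, k', by rw [h, k], by linarith⟩
  set V := Finset.univ.filter fun i => v i ≠ 0 with hVdef
  have htV : t ∈ V := by simp [hVdef, hvt, hut]
  obtain ⟨b, c, hbc, hbcs⟩ := Finset.card_eq_two.mp
    (show (V.erase t).card = 2 by rw [Finset.card_erase_of_mem htV, hV])
  obtain ⟨hbt, hvb⟩ : b ≠ t ∧ v b ≠ 0 := by
    have : b ∈ V.erase t := by rw [hbcs]; simp
    simpa [hVdef] using this
  obtain ⟨hct, hvc⟩ : c ≠ t ∧ v c ≠ 0 := by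
    have : c ∈ V.erase t := by rw [hbcs]; simp
    simpa [hVdef] using this
  have hv0 : ∀ i, i ≠ t → i ≠ b → i ≠ c → v i = 0 := by
    intro i h1 h2 h3
    by_contra h
    have : i ∈ V.erase t := by simp [hVdef, h1, h]
    rw [hbcs] at this
    simp [h2, h3] at this
  have hob : o ≠ b := fun h => hvb (h ▸ hvo)
  have hoc : o ≠ c := fun h => hvc (h ▸ hvo)
  have hab : a ≠ b := fun h => hvb (h ▸ hva)
  have hac : a ≠ c := fun h => hvc (h ▸ hva)
  refine ⟨a, t, b, c, hao.symm, hto.symm, hob, hoc, hat, hab, hac, hbt.symm, hct.symm, hbc, hua,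
    (hv' b).resolve_left hvb, (hv' c).resolve_left hvc, ?_, hvt, hu0, hv0,
    hu0 b hob.symm hab.symm hbt, hu0 c hoc.symm hac.symm hct, hva⟩
  have h1 := hx a
  have h2 := hx t
  rcases hua with h | h <;> rcases hta with h' | h' <;> rw [h, h'] at hr ⊢ <;> norm_num <;> linarith

end Cfsg.Agent.Lib.DihedralBlock
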