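import Cfsg.Agent.Lib.DihedralBlock.Exceptional
import Cfsg.Agent.Lib.DihedralBlock.Support
import Cfsg.Agent.Lib.Blocks.DefectZero
import Cfsg.Agent.Lib.Characters.Gram

/-!
# The principal 2-block of a group with a dihedral Sylow 2-subgroup
-/

set_option autoImplicit false
set_option linter.unusedSectionVars false
set_option linter.style.haveILetI false

namespace Cfsg.Agent.Lib.DihedralBlock

open Cfsg Cfsg.Agent.Lib.Characters Cfsg.Agent.Lib.Blocks Cfsg.Agent.Lib.Cores
open Cfsg.Agent.Lib.Involutions DihedralGroup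
open scoped ComplexConjugate Classical

universe u

section Index

variable {m : ℕ} [NeZero m]

/-- The index of an exceptional character as an exponent. -/
def expo (i : Fin (m / 2 - 1)) : ZMod m := (((i : ℕ) + 1 : ℕ) : ZMod m)

theorem val_expo (i : Fin (m / 2 - 1)) : (expo i).val = (i : ℕ) + 1 := by
  have := i.2
  rw [expo, ZMod.val_natCast, Nat.mod_eq_of_lt (by omega)]

theorem val_half : (DihSylow.half m).val = m / 2 := by
  have := NeZero.pos m
  rw [DihSylow.half, ZMod.val_natCast, Nat.mod_eq_of_lt (by omega)]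

theorem expo_injective : Function.Injective (expo : Fin (m / 2 - 1) → ZMod m) := by
  intro i j h
  have := congrArg ZMod.val h
  rw [val_expo, val_expo] at this
  exact Fin.ext (by omega)

theorem expo_ne_zero (i : Fin (m / 2 - 1)) : expo i ≠ 0 := fun h => by
  have := val_expo i
  rw [h, ZMod.val_zero] at this
  omega

theorem expo_ne_half (i : Fin (m / 2 - 1)) : expo i ≠ DihSylow.half m := fun h => by
  have := val_expo i
  rw [h, val_half] at this
  have := i.2
  omega

theorem val_neg_expo (i : Fin (m / 2 - 1)) : (-expo i).val = m - ((i : ℕ) + 1) := by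
  haveI : NeZero (expo i) := ⟨expo_ne_zero i⟩
  rw [ZMod.val_neg_of_ne_zero, val_expo]

theorem expo_ne_neg (i j : Fin (m / 2 - 1)) : expo i ≠ -expo j := fun h => by
  have := congrArg ZMod.val h
  rw [val_expo, val_neg_expo] at this
  have := i.2
  have := j.2
  omega

theorem neg_expo_ne_zero (i : Fin (m / 2 - 1)) : -expo i ≠ 0 := neg_ne_zero.2 (expo_ne_zero i)

theorem neg_expo_ne_half (heven : Even m) (i : Fin (m / 2 - 1)) : -expo i ≠ DihSylow.half m := fun h => by
  have := congrArg ZMod.val h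
  rw [val_half, val_neg_expo] at this
  obtain ⟨k, hk⟩ := heven
  have := i.2
  omega

theorem index_cases (heven : Even m) (s : ZMod m) :
    s = 0 ∨ s = DihSylow.half m ∨ ∃ i, s = expo i ∨ s = -expo i := by
  obtain ⟨k, hk⟩ := heven
  have hv := ZMod.val_lt s
  rcases lt_trichotomy s.val (m / 2) with h | h | h
  · rcases Nat.eq_zero_or_pos s.val with h0 | h0
    · exact Or.inl ((ZMod.val_eq_zero s).1 h0)
    · refine Or.inr (Or.inr ⟨⟨s.val - 1, by omega⟩, Or.inl ?_⟩)
      apply ZMod.val_injective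
      rw [val_expo]
      show s.val = s.val - 1 + 1
      omega
  · exact Or.inr (Or.inl (ZMod.val_injective _ (by rw [val_half, h])))
  · refine Or.inr (Or.inr ⟨⟨m - s.val - 1, by omega⟩, Or.inr ?_⟩)
    apply ZMod.val_injective
    rw [val_neg_expo]
    show s.val = m - (m - s.val - 1 + 1)
    omega

variable {ζ : ℂ}

theorem pow_half_eq (hζ : IsPrimitiveRoot ζ m) (heven : Even m) : ζ ^ (m / 2) = -1 := by
  obtain ⟨k, hk⟩ := heven
  have hk2 : m / 2 = k := by omega
  rw [hk2]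
  refine (mul_self_eq_one_iff.mp (by rw [← pow_add, ← hk, hζ.pow_eq_one])).resolve_left ?_
  refine hζ.pow_ne_one_of_pos_of_lt ?_ ?_ <;> (have := NeZero.ne m; omega)

theorem ez_half_mul (hζ : IsPrimitiveRoot ζ m) (heven : Even m) (l : ZMod m) :
    ez ζ (DihSylow.half m * l) = (-1 : ℂ) ^ l.val := by
  conv_lhs => rw [DihSylow.half, ← ZMod.natCast_zmod_val l, ← Nat.cast_mul, ez_natCast hζ, pow_mul,
    pow_half_eq hζ heven]

/-- Sums of an even function against the additive characters. -/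
theorem sum_even_mul_ez (hζ : IsPrimitiveRoot ζ m) (heven : Even m) (hh : DihSylow.half m ≠ 0)
    (C : ZMod m → ℂ) (hC : ∀ s, C (-s) = C s) (l : ZMod m) :
    ∑ s, C s * ez ζ (s * l) = C 0 + C (DihSylow.half m) * (-1 : ℂ) ^ l.val +
      ∑ i, C (expo i) * theta ζ (expo i) l := by
  have e : ∀ s, C s = (if s = 0 then C 0 else 0) + (if s = DihSylow.half m then C (DihSylow.half m) else 0) +
      ∑ i, ((if s = expo i then C (expo i) else 0) + (if s = -expo i then C (expo i) else 0)) := by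
    intro s
    rcases index_cases heven s with rfl | rfl | ⟨j, rfl | rfl⟩
    · simp [hh.symm, (expo_ne_zero _).symm, fun i : Fin (m / 2 - 1) => expo_ne_zero i]
    · simp [hh, fun i : Fin (m / 2 - 1) => (expo_ne_half i).symm,
        fun i : Fin (m / 2 - 1) => (neg_expo_ne_half heven i).symm]
    · rw [if_neg (expo_ne_zero j), if_neg (expo_ne_half j), Finset.sum_eq_single j]
      · simp [expo_ne_neg j j]
      · intro i _ hi
        rw [if_neg fun h => hi (expo_injective h).symm, if_neg (expo_ne_neg j i), add_zero]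
      · simp
    · rw [if_neg (neg_expo_ne_zero j), if_neg (neg_expo_ne_half heven j), Finset.sum_eq_single j]
      · simp [hC, (expo_ne_neg j j).symm]
      · intro i _ hi
        rw [if_neg (expo_ne_neg i j).symm, if_neg fun h => hi (expo_injective (neg_injective h)).symm,
          add_zero]
      · simp
  rw [Finset.sum_congr rfl fun s _ => by rw [e s]]
  simp only [add_mul, Finset.sum_add_distrib, Finset.sum_mul, ite_mul, zero_mul]
  rw [Finset.sum_comm]
  nth_rewrite 2 [Finset.sum_comm]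
  simp only [Finset.sum_ite_eq', Finset.mem_univ, if_true, zero_mul, ez_zero, mul_one,
    ez_half_mul hζ heven, theta, neg_mul, mul_add, Finset.sum_add_distrib]

theorem sum_theta_expo (hζ : IsPrimitiveRoot ζ m) (heven : Even m) (hh : DihSylow.half m ≠ 0)
    {l : ZMod m} (hl : l ≠ 0) :
    1 + (-1 : ℂ) ^ l.val + ∑ i, theta ζ (expo i) l = 0 := by
  have h := sum_even_mul_ez hζ heven hh (fun _ => 1) (fun _ => rfl) l
  simp only [one_mul, sum_ez_mul hζ, hl, if_false] at h
  exact h.symm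

theorem theta_expo_natCast (hζ : IsPrimitiveRoot ζ m) (i : Fin (m / 2 - 1)) (l : ℕ) :
    theta ζ (expo i) (l : ZMod m) = ζ ^ (((i : ℕ) + 1) * l) + (ζ ^ (((i : ℕ) + 1) * l))⁻¹ := by
  rw [theta, expo, ez_neg hζ, ← Nat.cast_mul, ez_natCast hζ]

end Index

section Parity

variable {G : Type u} [Group G] [Fintype G]

theorem exists_int_parity {t : G} (ht : t * t = 1) (χ : IrrCharacter G) :
    ∃ u d : ℤ, (u : ℂ) = (χ : G → ℂ) t ∧ (d : ℂ) = (χ : G → ℂ) 1 ∧ 2 ∣ u - d := by
  obtain ⟨n, ρ, -, hρ⟩ := χ.2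
  let Q : Module.End ℂ (Fin n → ℂ) := (2 : ℂ)⁻¹ • (1 + ρ t)
  have hQ : Q * Q = Q := by
    have h2 : ρ t * ρ t = 1 := by rw [← map_mul, ht, map_one]
    simp only [Q, smul_mul_smul_comm, mul_add, add_mul, one_mul, mul_one, h2]
    rw [show (1 : Module.End ℂ (Fin n → ℂ)) + ρ t + (ρ t + 1) = (2 : ℂ) • (1 + ρ t) by
      rw [two_smul]; abel, smul_smul]
    norm_num
  have hproj : LinearMap.IsProj (LinearMap.range Q) Q :=
    ⟨fun x => ⟨x, rfl⟩, by rintro _ ⟨y, rfl⟩; rw [← Module.End.mul_apply, hQ]⟩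
  refine ⟨2 * (Module.finrank ℂ (LinearMap.range Q) : ℤ) - n, n, ?_, ?_,
    ⟨(Module.finrank ℂ (LinearMap.range Q) : ℤ) - n, by ring⟩⟩
  · have h := hproj.trace
    simp only [Q, map_smul, map_add, smul_eq_mul, LinearMap.trace_one, Module.finrank_fin_fun] at h
    push_cast
    rw [← hρ]
    simp only [Representation.character]
    linear_combination -2 * h
  · rw [← hρ]
    simp [Representation.character, LinearMap.trace_one, Module.finrank_fin_fun]

theorem one_le_normSq_of_odd {t s : G} (ht : t * t = 1) (hs : s * s = 1) (χ : IrrCharacter G)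
    {δ : ℤ} (hδ : δ = 1 ∨ δ = -1) (hval : (χ : G → ℂ) t = δ) :
    1 ≤ Complex.normSq ((χ : G → ℂ) s) := by
  obtain ⟨u, d, hu, hd, h1⟩ := exists_int_parity ht χ
  obtain ⟨w, d', hw, hd', h2⟩ := exists_int_parity hs χ
  have hdd : d = d' := by exact_mod_cast hd.trans hd'.symm
  have huδ : u = δ := by exact_mod_cast hu.trans hval
  have hw0 : w ≠ 0 := by omega
  rw [← hw, Complex.normSq_intCast]
  have hw1 : 1 ≤ w * w := by
    rcases lt_or_gt_of_ne hw0 with h | h <;> nlinarith
  exact_mod_cast hw1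

end Parity

section Main

variable {G : Type u} [Group G] [Fintype G] [Fintype (IrrCharacter G)] {M : Ideal AlgInt}
  [hMp : M.IsPrime] {m : ℕ} [NeZero m] {d : DihSylow G m} {ζ : ℂ}

theorem apply_eq_pPart (d : DihSylow G m) (hM : IsPModular 2 M) {χ : IrrCharacter G}
    (hχ : χ ∈ principalBlock M G) {g v : G} (hv : IsPPart 2 g v) (hv1 : v ≠ 1) :
    (χ : G → ℂ) g = (χ : G → ℂ) v := by
  haveI : Fact (Nat.Prime 2) := ⟨Nat.prime_two⟩
  obtain ⟨y, hy, hvy, hvk, hpy⟩ := hv
  have hk := index_pPrimeCore_centralizer d hvk hv1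
  have hcy : y ∈ Subgroup.centralizer ({v} : Set G) :=
    Subgroup.mem_centralizer_singleton_iff.2 hvy.symm.eq
  have hmem : (⟨y, hcy⟩ : Subgroup.centralizer ({v} : Set G)) ∈
      pPrimeCore 2 (Subgroup.centralizer ({v} : Set G)) := by
    haveI : (pPrimeCore 2 (Subgroup.centralizer ({v} : Set G))).Normal := (pPrimeCore_mem 2 _).1
    rw [← QuotientGroup.eq_one_iff, ← orderOf_eq_one_iff]
    refine Nat.eq_one_of_dvd_coprimes
      ((Nat.prime_two.coprime_iff_not_dvd.2 hpy).pow_left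
        ((Nat.card (Subgroup.centralizer ({v} : Set G))).factorization 2)) ?_ ?_
    · rw [← hk, Subgroup.index_eq_card]; exact orderOf_dvd_natCard _
    · refine (orderOf_map_dvd (QuotientGroup.mk' _) _).trans ?_
      rw [← Subgroup.orderOf_coe, Subgroup.coe_mk]
  rw [← hy]
  exact Cfsg.Agent.S0942.result 2 M hM v hvk y ⟨_, hmem, rfl⟩ χ hχ

theorem one_mem_principalBlock : trivIrr G ∈ principalBlock M G :=
  show SameBlock M (fun _ : G => (1 : ℂ)) (trivIrr G : G → ℂ) from sameBlock_refl _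

theorem cast_sum_irr (c : IrrCharacter G → ℤ) (g : G) :
    (∑ χ : IrrCharacter G, (c χ : ℂ) • (χ : G → ℂ)) g = ∑ χ : IrrCharacter G, (c χ : ℂ) * (χ : G → ℂ) g := by
  simp [Finset.sum_apply]

/-- The basic generalized characters and their common constituents. -/
theorem exists_structure (hM : IsPModular 2 M) (hζ : IsPrimitiveRoot ζ m) (hm : 4 ≤ m) :
    ∃ (a b c : IrrCharacter G) (μ : Fin (m / 2 - 1) → IrrCharacter G) (δ₁ δ₂ δ₃ : ℤ),
      (δ₁ = 1 ∨ δ₁ = -1) ∧ (δ₂ = 1 ∨ δ₂ = -1) ∧ (δ₃ = 1 ∨ δ₃ = -1) ∧ Function.Injective μ ∧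
      trivIrr G ≠ a ∧ trivIrr G ≠ b ∧ trivIrr G ≠ c ∧ a ≠ b ∧ a ≠ c ∧ b ≠ c ∧
      (∀ i, μ i ≠ trivIrr G ∧ μ i ≠ a ∧ μ i ≠ b ∧ μ i ≠ c) ∧
      (∀ χ, cf d M (tdiff ζ 0 1) χ = (if χ = trivIrr G then (1 : ℂ) else 0) +
        (if χ = a then (δ₁ : ℂ) else 0) - (if χ = μ ⟨0, by omega⟩ then (δ₁ : ℂ) else 0)) ∧
      (∀ χ, cf d M (tdiff ζ (DihSylow.half m) 1) χ = -(if χ = b then (δ₂ : ℂ) else 0) -
        (if χ = c then (δ₃ : ℂ) else 0) - (if χ = μ ⟨0, by omega⟩ then (δ₁ : ℂ) else 0)) ∧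
      ∀ i χ, cf d M (tdiff ζ (expo i) 1) χ = (if χ = μ i then (δ₁ : ℂ) else 0) -
        (if χ = μ ⟨0, by omega⟩ then (δ₁ : ℂ) else 0) := by
  have hN : 1 ≤ m / 2 - 1 := by omega
  set i₀ : Fin (m / 2 - 1) := ⟨0, hN⟩ with hi₀
  set h := DihSylow.half m with hh
  have h1e : (1 : ZMod m) = expo i₀ := by simp [expo, hi₀]
  have h10 : (1 : ZMod m) ≠ 0 := h1e ▸ expo_ne_zero i₀
  have h1h : (1 : ZMod m) ≠ h := h1e ▸ expo_ne_half i₀
  have h11 : (1 : ZMod m) ≠ -1 := h1e ▸ expo_ne_neg i₀ i₀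
  have hh0 : h ≠ 0 := d.half_ne
  have hhn : -h = h := by
    have := d.half_add
    linear_combination -this
  have h1h' : (1 : ZMod m) ≠ -h := by rwa [hhn]
  choose u hu using fun χ : IrrCharacter G => exists_int_cf (d := d) hM hζ 0 1 χ
  choose v hv using fun χ : IrrCharacter G => exists_int_cf (d := d) hM hζ h 1 χ
  choose T hT using fun (i : Fin (m / 2 - 1)) (χ : IrrCharacter G) =>
    exists_int_cf (d := d) hM hζ (expo i) 1 χ
  have hPhi : ∀ (s : ZMod m) (w : IrrCharacter G → ℤ), (∀ χ, cf d M (tdiff ζ s 1) χ = (w χ : ℂ)) →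
      Phi d M (tdiff ζ s 1) = ∑ χ : IrrCharacter G, (w χ : ℂ) • (χ : G → ℂ) := fun s w hw => by
    simp only [Phi, hw]
  have hinner : ∀ (s s' : ZMod m) (w w' : IrrCharacter G → ℤ) (k : ℤ),
      (∀ χ, cf d M (tdiff ζ s 1) χ = (w χ : ℂ)) → (∀ χ, cf d M (tdiff ζ s' 1) χ = (w' χ : ℂ)) →
      classInner (Phi d M (tdiff ζ s 1)) (Phi d M (tdiff ζ s' 1)) = (k : ℂ) →
      ∑ χ, w χ * w' χ = k := by
    intro s s' w w' k hw hw' hk
    rw [hPhi s w hw, hPhi s' w' hw', classInner_sum_sum] at hk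
    have h' : ((∑ χ, w χ * w' χ : ℤ) : ℂ) = (k : ℂ) := by
      rw [← hk]
      push_cast
      exact Finset.sum_congr rfl fun χ _ => by rw [map_intCast]
    exact_mod_cast h'
  have hone : ∀ (s : ZMod m) (w : IrrCharacter G → ℤ), (∀ χ, cf d M (tdiff ζ s 1) χ = (w χ : ℂ)) →
      ∑ χ, w χ * (charDegree (χ : G → ℂ) : ℤ) = 0 := by
    intro s w hw
    have h := Phi_odd (d := d) hM (tdiff ζ s 1) (g := (1 : G)) (by rw [orderOf_one]; norm_num)
    rw [hPhi s w hw, cast_sum_irr] at h
    have h' : ((∑ χ, w χ * (charDegree (χ : G → ℂ) : ℤ) : ℤ) : ℂ) = ((0 : ℤ) : ℂ) := by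
      push_cast
      rw [← h]
      exact Finset.sum_congr rfl fun χ _ => by rw [charDegree_eq]
    exact_mod_cast h'
  have htriv : ∀ s : ZMod m, cf d M (tdiff ζ s 1) (trivIrr G) = (if s = 0 then 1 else 0 : ℂ) := by
    intro s
    have hw : ∀ l, conj (wv d M (trivIrr G) l) = if l = 0 then (0 : ℂ) else 1 := fun l => by
      by_cases hl : l = 0 <;> simp [wv, hl, one_mem_principalBlock]
    rw [cf]
    have hs : ∀ r : ZMod m, ∑ l, theta ζ r l = if r = 0 then 2 * (m : ℂ) else 0 := fun r => by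
      simp only [theta, Finset.sum_add_distrib, ← neg_mul, mul_comm r, mul_comm (-r)]
      rw [Finset.sum_congr rfl fun l _ => show ez ζ (-l * r) = ez ζ (l * -r) by rw [neg_mul, mul_neg]]
      rw [sum_ez_mul hζ, sum_ez_mul hζ]
      by_cases hr : r = 0 <;> simp [hr, two_mul]
    have : ∀ l, tdiff ζ s 1 l * conj (wv d M (trivIrr G) l) = tdiff ζ s 1 l := fun l => by
      rw [hw]
      split_ifs with hl
      · rw [hl, tdiff_zero, zero_mul]
      · rw [mul_one]
    rw [Finset.sum_congr rfl fun l _ => this l]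
    show _ * ∑ l, (theta ζ s l - theta ζ 1 l) = _
    simp only [Finset.sum_sub_distrib, hs, h10, if_false, sub_zero]
    have hm0 : (m : ℂ) ≠ 0 := Nat.cast_ne_zero.2 (NeZero.ne m)
    split_ifs
    · field_simp
    · ring
  set o := trivIrr G with ho
  have huo : u o = 1 := by
    have := (hu o).symm.trans (htriv 0)
    rw [if_pos rfl] at this
    exact_mod_cast this
  have hvo : v o = 0 := by
    have := (hv o).symm.trans (htriv h)
    rw [if_neg hh0] at this
    exact_mod_cast this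
  have hTo : ∀ i, T i o = 0 := fun i => by
    have := (hT i o).symm.trans (htriv (expo i))
    rw [if_neg (expo_ne_zero i)] at this
    exact_mod_cast this
  have hxo : ((charDegree (o : G → ℂ) : ℤ)) = 1 := by
    have := charDegree_eq o
    rw [ho, trivIrr_apply] at this
    exact_mod_cast this
  have huu : ∑ χ, u χ * u χ = 3 := hinner 0 0 u u 3 hu hu (by
    rw [classInner_Phi_tdiff hM hζ]; simp [h10, h10.symm, h11])
  have hvv : ∑ χ, v χ * v χ = 3 := hinner h h v v 3 hv hv (by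
    rw [classInner_Phi_tdiff hM hζ]; simp [hhn, h1h.symm, h1h, h11, eq_neg_iff_add_eq_zero, d.half_add,
      hh ▸ d.half_add, show h + 1 ≠ 0 from fun e => h1h (by linear_combination e + hhn)])
  have huv : ∑ χ, u χ * v χ = 1 := hinner 0 h u v 1 hu hv (by
    rw [classInner_Phi_tdiff hM hζ]; simp [hhn, h1h, hh0.symm, hh0, h10, h10.symm, h11])
  obtain ⟨a, t, b, c, hoa, hot, hob, hoc, hat, hab, hac, htb, htc, hbc, hua, hvb, hvc, hut, hvt, hu0,
    hv0, hub, huc, hva⟩ := support_shape u v o (fun χ : IrrCharacter G => (charDegree (χ : G → ℂ) : ℤ))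
      (fun χ => by exact_mod_cast charDegree_pos χ) hxo huo hvo huu hvv huv (hone 0 u hu) (hone h v hv)
  obtain ⟨μ, hμi, hμ0, hTμ, hμu, hμv⟩ : ∃ μ : Fin (m / 2 - 1) → IrrCharacter G, Function.Injective μ ∧
      μ i₀ = t ∧ (∀ i χ, T i χ = u a * ((if χ = μ i then 1 else 0) - (if χ = t then 1 else 0))) ∧
      (∀ i, i ≠ i₀ → u (μ i) = 0) ∧ ∀ i, i ≠ i₀ → v (μ i) = 0 := by
    have hT0 : ∀ χ, T i₀ χ = 0 := fun χ => by
      have := hT i₀ χ
      rw [← h1e] at this
      simp [cf, tdiff] at this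
      exact_mod_cast this.symm
    by_cases hN1 : m / 2 - 1 = 1
    · have hall : ∀ i, i = i₀ := fun i => Fin.ext (by have := i.2; simp [hi₀]; omega)
      refine ⟨fun _ => t, fun i j _ => (hall i).trans (hall j).symm, rfl, fun i χ => ?_,
        fun i hi => absurd (hall i) hi, fun i hi => absurd (hall i) hi⟩
      rw [hall i, hT0, sub_self, mul_zero]
    have hN3 : 3 ≤ m / 2 - 1 := by
      obtain ⟨k, hk⟩ := IsPGroup.iff_card.mp d.S.2
      rw [d.card_S] at hk
      rcases le_or_gt k 3 with hk3 | hk3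
      · have := Nat.pow_le_pow_right (n := 2) (by norm_num) hk3
        omega
      · have := Nat.pow_le_pow_right (n := 2) (by norm_num) (show 4 ≤ k by omega)
        omega
    obtain ⟨ε, hε, θ, hθ, hθi, hτ⟩ := exists_sign_of_gram (m / 2 - 1) i₀
      (fun i => Phi d M (tdiff ζ (expo i) 1))
      (by
        show Phi d M (tdiff ζ (expo i₀) 1) = 0
        rw [← h1e]; simp [Phi, cf, tdiff]) (fun i => isGeneralizedCharacter_Phi hM hζ _ _)
      (fun i => Phi_odd hM _ (by rw [orderOf_one]; norm_num)) (fun i j hi hj => by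
        rw [classInner_Phi_tdiff hM hζ, h1e]
        have e1 : ∀ i j : Fin (m / 2 - 1), (expo i : ZMod m) = expo j ↔ i = j := fun i j =>
          ⟨fun h => expo_injective h, fun h => by rw [h]⟩
        simp only [e1, expo_ne_neg, hi, Ne.symm hj, if_false, if_true]
        split_ifs <;> norm_num)
    obtain ⟨e, he, rfl⟩ : ∃ e : ℤ, (e = 1 ∨ e = -1) ∧ ε = (e : ℂ) := by
      rcases hε with rfl | rfl
      · exact ⟨1, Or.inl rfl, by norm_num⟩
      · exact ⟨-1, Or.inr rfl, by norm_num⟩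
    let μ : Fin (m / 2 - 1) → IrrCharacter G := fun i => ⟨θ i, hθ i⟩
    have hμi : Function.Injective μ := fun i j h => hθi (congrArg Subtype.val h)
    have hTe : ∀ i χ, T i χ = e * ((if χ = μ i then 1 else 0) - (if χ = μ i₀ then 1 else 0)) := by
      intro i χ
      have h1 := classInner_Phi (d := d) (M := M) (tdiff ζ (expo i) 1) χ
      rw [hT i χ] at h1
      have h2 : classInner (Phi d M (tdiff ζ (expo i) 1)) (χ : G → ℂ) =
          ((e * ((if χ = μ i then 1 else 0) - (if χ = μ i₀ then 1 else 0)) : ℤ) : ℂ) := by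
        rw [hτ i, show θ i = (μ i : G → ℂ) from rfl, show θ i₀ = (μ i₀ : G → ℂ) from rfl,
          classInner_smul_left, classInner_sub_left, classInner_irr, classInner_irr]
        push_cast
        simp only [eq_comm (a := χ)]
      exact_mod_cast h1.symm.trans h2
    have hee : e * e = 1 := by rcases he with rfl | rfl <;> rfl
    have hrec : ∀ (w : IrrCharacter G → ℤ) (i : Fin (m / 2 - 1)), ∑ χ, w χ * T i χ = 1 →
        w (μ i) - w (μ i₀) = e := by
      intro w i hsum
      have h : ∑ χ, w χ * T i χ = e * (w (μ i) - w (μ i₀)) := by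
        simp only [hTe, mul_sub, mul_ite, mul_one, mul_zero, Finset.sum_sub_distrib, Finset.sum_ite_eq',
          Finset.mem_univ, if_true]
        ring
      rw [hsum] at h
      linear_combination (-e) * h - (w (μ i) - w (μ i₀)) * hee
    have hru : ∀ i, i ≠ i₀ → u (μ i) - u (μ i₀) = e := fun i hi => hrec u i (hinner 0 (expo i) u (T i) 1
      hu (hT i) (by
      rw [classInner_Phi_tdiff hM hζ, h1e]
      simp [(expo_ne_zero i).symm, (neg_expo_ne_zero i).symm, (expo_ne_zero i₀).symm,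
        (neg_expo_ne_zero i₀).symm, expo_ne_neg, expo_injective.ne (Ne.symm hi)]))
    have hrv : ∀ i, i ≠ i₀ → v (μ i) - v (μ i₀) = e := fun i hi => hrec v i (hinner h (expo i) v (T i) 1
      hv (hT i) (by
      rw [classInner_Phi_tdiff hM hζ, h1e]
      simp [(expo_ne_half i).symm, (neg_expo_ne_half d.even_m i).symm, (expo_ne_half i₀).symm, hh,
        (neg_expo_ne_half d.even_m i₀).symm, expo_ne_neg, expo_injective.ne (Ne.symm hi)]))
    let i₁ : Fin (m / 2 - 1) := ⟨1, by omega⟩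
    let i₂ : Fin (m / 2 - 1) := ⟨2, by omega⟩
    have h10' : i₁ ≠ i₀ := by simp [i₁, hi₀]
    have h20' : i₂ ≠ i₀ := by simp [i₂, hi₀]
    have h12' : μ i₁ ≠ μ i₂ := fun h => absurd (hμi h) (by simp [i₁, i₂])
    have hμo : ∀ i, μ i ≠ o := by
      intro i hi
      by_cases hi' : i = i₀
      · subst hi'
        have := hTo i₁
        rw [hTe, hi, if_neg (fun h => h10' (hμi (hi.trans h)).symm), if_pos rfl] at this
        omega
      · have := hTo i
        rw [hTe, hi, if_pos rfl, if_neg (fun h => hi' (hμi (hi.trans h)))] at this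
        omega
    have humem : ∀ i, u (μ i) ≠ 0 → μ i = a ∨ μ i = t := fun i h => by
      by_contra hc
      rw [not_or] at hc
      exact h (hu0 _ (hμo i) hc.1 hc.2)
    have hvmem : ∀ i, v (μ i) ≠ 0 → μ i = t ∨ μ i = b ∨ μ i = c := fun i h => by
      by_contra hc
      rw [not_or, not_or] at hc
      exact h (hv0 _ hc.1 hc.2.1 hc.2.2)
    have hu1 := hru i₁ h10'
    have hu2 := hru i₂ h20'
    have hval : ∀ χ, χ ≠ o → u χ = 0 ∨ χ = a ∨ χ = t := fun χ hχ => by
      by_cases h1 : χ = a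
      · exact Or.inr (Or.inl h1)
      by_cases h2 : χ = t
      · exact Or.inr (Or.inr h2)
      exact Or.inl (hu0 χ hχ h1 h2)
    have hu0' : u (μ i₀) = -e := by
      rcases hval _ (hμo i₀) with h | h | h
      · exfalso
        rcases humem i₁ (by omega) with r1 | r1 <;> rcases humem i₂ (by omega) with r2 | r2
        · exact h12' (r1.trans r2.symm)
        · rw [r1] at hu1; rw [r2] at hu2; omega
        · rw [r1] at hu1; rw [r2] at hu2; omega
        · exact h12' (r1.trans r2.symm)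
      all_goals
        by_contra hne
        rcases humem i₁ (by rw [h] at hu1 hne; omega) with r1 | r1 <;>
          (have : μ i₁ ≠ μ i₀ := fun x => h10' (hμi x)
           first | exact this (r1.trans h.symm) | (rw [h] at hu1 hne; rw [r1] at hu1; omega))
    have hu00 : ∀ i, i ≠ i₀ → u (μ i) = 0 := fun i hi => by
      have := hru i hi
      omega
    have hv0' : v (μ i₀) = -e := by
      by_contra hne
      have hv1 := hrv i₁ h10'
      have hv2 := hrv i₂ h20'
      have hval : ∀ i, v (μ i) = 0 ∨ v (μ i) = 1 ∨ v (μ i) = -1 := fun i => (card_support_three v hvv).1 _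
      have hz : v (μ i₀) = 0 := by
        have := hval i₀; have := hval i₁; omega
      have hbcm : ∀ i, i ≠ i₀ → μ i = b ∨ μ i = c := fun i hi => by
        have := hrv i hi
        rcases hvmem i (by omega) with r | r
        · exfalso
          have h1 := hu00 i hi
          rw [r] at h1
          omega
        · exact r
      have hat0 : μ i₀ = a ∨ μ i₀ = t := humem i₀ (by omega)
      have ha0 : μ i₀ = a := hat0.resolve_right fun r => by rw [r] at hz; omega
      have hbe : v b = e ∧ v c = e := by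
        have e1 : v (μ i₁) = e := by omega
        have e2 : v (μ i₂) = e := by omega
        rcases hbcm i₁ h10' with r1 | r1 <;> rcases hbcm i₂ h20' with r2 | r2
        · exact absurd (r1.trans r2.symm) h12'
        · exact ⟨r1 ▸ e1, r2 ▸ e2⟩
        · exact ⟨r2 ▸ e2, r1 ▸ e1⟩
        · exact absurd (r1.trans r2.symm) h12'
      have hdeg := hone h v hv
      rw [← Finset.sum_subset (Finset.subset_univ ({t, b, c} : Finset (IrrCharacter G))) (fun i _ hi => by
        simp only [Finset.mem_insert, Finset.mem_singleton, not_or] at hi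
        rw [hv0 i hi.1 hi.2.1 hi.2.2, zero_mul]), Finset.sum_insert (by simp [htb, htc]),
        Finset.sum_pair hbc, hbe.1, hbe.2, hvt, hut, show u a = -e by rw [← ha0]; exact hu0'] at hdeg
      have p1 : (0 : ℤ) < charDegree (t : G → ℂ) := by exact_mod_cast charDegree_pos t
      have p2 : (0 : ℤ) < charDegree (b : G → ℂ) := by exact_mod_cast charDegree_pos b
      have p3 : (0 : ℤ) < charDegree (c : G → ℂ) := by exact_mod_cast charDegree_pos c
      rcases he with rfl | rfl <;> linarith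
    have hμ0 : μ i₀ = t := by
      rcases hvmem i₀ (by omega) with r | r | r
      · exact r
      · rw [r] at hu0'; omega
      · rw [r] at hu0'; omega
    refine ⟨μ, hμi, hμ0, fun i χ => ?_, hu00, fun i hi => ?_⟩
    · rw [hTe, hμ0, show u a = e by rw [hμ0] at hu0'; omega]
    · have := hrv i hi; omega
  refine ⟨a, b, c, μ, u a, -v b, -v c, hua, by omega, by omega, hμi, hoa, hob, hoc, hab, hac, hbc,
    fun i => ?_, fun χ => ?_, fun χ => ?_, fun i χ => ?_⟩
  · by_cases hi : i = i₀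
    · subst hi
      rw [hμ0]
      exact ⟨hot.symm, hat.symm, htb, htc⟩
    · have h1 := hμu i hi
      have h2 := hμv i hi
      refine ⟨?_, ?_, ?_, ?_⟩ <;> intro r <;> rw [r] at h1 h2 <;> omega
  · show _ = _ + _ - (if χ = μ i₀ then _ else _)
    rw [hu χ, hμ0]
    by_cases h1 : χ = o
    · subst h1; simp [huo, hoa, hot]
    by_cases h2 : χ = a
    · subst h2; simp [h1, hat]
    by_cases h3 : χ = t
    · subst h3; simp [h1, h2, hut]
    simp [h1, h2, h3, hu0 χ h1 h2 h3]
  · show _ = _ - _ - (if χ = μ i₀ then _ else _)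
    rw [hv χ, hμ0]
    by_cases h1 : χ = t
    · subst h1; simp [htb, htc, hvt, hut]
    by_cases h2 : χ = b
    · subst h2; simp [h1, hbc]
    by_cases h3 : χ = c
    · subst h3; simp [h1, h2]
    simp [h1, h2, h3, hv0 χ h1 h2 h3]
  · show _ = _ - (if χ = μ i₀ then _ else _)
    rw [hT i χ, hTμ, hμ0]
    split_ifs <;> push_cast <;> ring

theorem cf_neg (s : ZMod m) (χ : IrrCharacter G) :
    cf d M (tdiff ζ (-s) 1) χ = cf d M (tdiff ζ s 1) χ := by
  simp only [cf, tdiff, theta_neg_left]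

/-- **The principal 2-block for a dihedral Sylow 2-subgroup.** -/
theorem principal_structure (hM : IsPModular 2 M) (hζ : IsPrimitiveRoot ζ m) (hm : 4 ≤ m) :
    ∃ (a b c : IrrCharacter G) (μ : Fin (m / 2 - 1) → IrrCharacter G) (δ₁ δ₂ δ₃ : ℤ),
      (δ₁ = 1 ∨ δ₁ = -1) ∧ (δ₂ = 1 ∨ δ₂ = -1) ∧ (δ₃ = 1 ∨ δ₃ = -1) ∧ Function.Injective μ ∧
      trivIrr G ≠ a ∧ trivIrr G ≠ b ∧ trivIrr G ≠ c ∧ a ≠ b ∧ a ≠ c ∧ b ≠ c ∧
      (∀ i, μ i ≠ trivIrr G ∧ μ i ≠ a ∧ μ i ≠ b ∧ μ i ≠ c) ∧
      principalBlock M G = {χ | χ = trivIrr G ∨ χ = a ∨ χ = b ∨ χ = c ∨ ∃ i, χ = μ i} ∧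
      (∀ l : ℕ, (l : ZMod m) ≠ 0 →
        (a : G → ℂ) (d.ι (r l)) = δ₁ ∧ (b : G → ℂ) (d.ι (r l)) = δ₂ * (-1) ^ (l + 1) ∧
        (c : G → ℂ) (d.ι (r l)) = δ₃ * (-1) ^ (l + 1) ∧
        ∀ i, (μ i : G → ℂ) (d.ι (r l)) = δ₁ * theta ζ (expo i) l) ∧
      (∀ g : G, Odd (orderOf g) → ∀ i, 1 + δ₁ * (a : G → ℂ) g = -δ₂ * (b : G → ℂ) g - δ₃ * (c : G → ℂ) g ∧
        1 + δ₁ * (a : G → ℂ) g = δ₁ * (μ i : G → ℂ) g) ∧
      ∀ χ, cf d M (tdiff ζ 0 1) χ = (if χ = trivIrr G then (1 : ℂ) else 0) +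
        (if χ = a then (δ₁ : ℂ) else 0) - (if χ = μ ⟨0, by omega⟩ then (δ₁ : ℂ) else 0) := by
  haveI : Fact (Nat.Prime 2) := ⟨Nat.prime_two⟩
  obtain ⟨a, b, c, μ, δ₁, δ₂, δ₃, hδ₁, hδ₂, hδ₃, hμi, hoa, hob, hoc, hab, hac, hbc, hμne, hU, hV, hT⟩ :=
    exists_structure (G := G) (d := d) hM hζ hm
  set i₀ : Fin (m / 2 - 1) := ⟨0, by omega⟩
  have heven := d.even_m
  have hh0 := d.half_ne
  have hw : ∀ χ (l : ZMod m), l ≠ 0 → wv d M χ l =
      ((if χ = trivIrr G then (1 : ℂ) else 0) + (if χ = a then (δ₁ : ℂ) else 0) -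
        (if χ = μ i₀ then (δ₁ : ℂ) else 0)) +
      (-(if χ = b then (δ₂ : ℂ) else 0) - (if χ = c then (δ₃ : ℂ) else 0) -
        (if χ = μ i₀ then (δ₁ : ℂ) else 0)) * (-1) ^ l.val +
      ∑ i, ((if χ = μ i then (δ₁ : ℂ) else 0) - (if χ = μ i₀ then (δ₁ : ℂ) else 0)) *
        theta ζ (expo i) l := by
    intro χ l hl
    rw [wv_eq_sum hζ χ hl, sum_even_mul_ez hζ heven hh0 (fun s => cf d M (tdiff ζ s 1) χ)
      (fun s => cf_neg s χ) l, hU χ, hV χ]
    simp only [hT, i₀]
  have hsign : ∀ l : ℕ, (-1 : ℂ) ^ ((l : ZMod m)).val = (-1) ^ l := by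
    intro l
    obtain ⟨k, hk⟩ := heven
    rw [ZMod.val_natCast]
    conv_rhs => rw [← Nat.mod_add_div l m, pow_add, pow_mul, hk, ← two_mul, pow_mul, neg_one_sq,
      one_pow, one_pow, mul_one, two_mul, ← hk]
  have hwa : ∀ l, l ≠ 0 → wv d M a l = δ₁ := fun l hl => by
    rw [hw a l hl]
    simp [hoa.symm, hab, hac, fun i => (hμne i).2.1.symm]
  have hwb : ∀ l, l ≠ 0 → wv d M b l = -(δ₂ : ℂ) * (-1) ^ l.val := fun l hl => by
    rw [hw b l hl]
    simp [hob.symm, hab.symm, hbc, fun i => (hμne i).2.2.1.symm]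
  have hwc : ∀ l, l ≠ 0 → wv d M c l = -(δ₃ : ℂ) * (-1) ^ l.val := fun l hl => by
    rw [hw c l hl]
    simp [hoc.symm, hac.symm, hbc.symm, fun i => (hμne i).2.2.2.symm]
  have hwμ : ∀ i l, l ≠ 0 → wv d M (μ i) l = δ₁ * theta ζ (expo i) l := fun i l hl => by
    rw [hw (μ i) l hl]
    simp only [(hμne i).1, (hμne i).2.1, (hμne i).2.2.1, (hμne i).2.2.2, if_false, hμi.eq_iff,
      sub_mul, Finset.sum_sub_distrib, ite_mul, zero_mul, Finset.sum_ite_eq, Finset.mem_univ, if_true]
    by_cases hi : i = i₀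
    · subst hi
      simp only [if_true, ← Finset.mul_sum]
      linear_combination (-(δ₁ : ℂ)) * sum_theta_expo hζ heven hh0 hl
    · simp [hi]
  have h10 : ((1 : ℕ) : ZMod m) ≠ 0 := by
    intro h
    have := congrArg ZMod.val h
    rw [ZMod.val_natCast, Nat.mod_eq_of_lt (by omega), ZMod.val_zero] at this
    omega
  have hne : ∀ z : ℤ, (z = 1 ∨ z = -1) → (z : ℂ) ≠ 0 := fun z hz => by
    rcases hz with rfl | rfl <;> norm_num
  have hmemB : ∀ χ l, wv d M χ l ≠ 0 → χ ∈ principalBlock M G := fun χ l h => by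
    by_contra hχ
    exact h (by simp [wv, hχ])
  have haB : a ∈ principalBlock M G := hmemB a _ (by rw [hwa _ h10]; exact hne _ hδ₁)
  have hbB : b ∈ principalBlock M G := hmemB b _ (by
    rw [hwb _ h10]; exact mul_ne_zero (neg_ne_zero.2 (hne _ hδ₂)) (pow_ne_zero _ (by norm_num)))
  have hcB : c ∈ principalBlock M G := hmemB c _ (by
    rw [hwc _ h10]; exact mul_ne_zero (neg_ne_zero.2 (hne _ hδ₃)) (pow_ne_zero _ (by norm_num)))
  have hμB : ∀ i, μ i ∈ principalBlock M G := fun i => hmemB (μ i) _ (by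
    rw [hwμ i _ hh0]
    refine mul_ne_zero (hne _ hδ₁) ?_
    rcases theta_half_cases hζ d.half_add (expo i) with h | h <;> rw [h] <;> norm_num)
  have hval : ∀ χ ∈ principalBlock M G, ∀ l : ZMod m, l ≠ 0 → (χ : G → ℂ) (d.ι (r l)) = wv d M χ l :=
    fun χ hχ l hl => by simp [wv, hl, hχ]
  refine ⟨a, b, c, μ, δ₁, δ₂, δ₃, hδ₁, hδ₂, hδ₃, hμi, hoa, hob, hoc, hab, hac, hbc, hμne, ?_,
    fun l hl => ?_, fun g hg i => ?_, hU⟩
  · refine Set.Subset.antisymm (fun ψ hψ => ?_) ?_
    · by_contra hno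
      simp only [Set.mem_ofPred_eq, not_or, not_exists] at hno
      obtain ⟨n0, n1, n2, n3, n4⟩ := hno
      have hrot : ∀ l : ZMod m, l ≠ 0 → (ψ : G → ℂ) (d.ι (r l)) = 0 := fun l hl => by
        rw [hval ψ hψ l hl, hw ψ l hl]
        simp [n0, n1, n2, n3, n4]
      have hrefl : ∀ i : ZMod m, (ψ : G → ℂ) (d.ι (sr i)) = 0 := by
        intro i
        by_cases hc : IsConj (d.ι (sr i)) (d.ι (r (DihSylow.half m)))
        · obtain ⟨k, hk⟩ := isConj_iff.1 hc
          rw [← irr_isClassFunction ψ (d.ι (sr i)) k, hk]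
          exact hrot _ hh0
        set z := d.ι (sr i)
        have hzo : orderOf z = 2 := d.orderOf_sr i
        have hz2 : z * z = 1 := invol_mul_self hzo
        have hJ2 : d.ι (r (DihSylow.half m)) * d.ι (r (DihSylow.half m)) = 1 :=
          invol_mul_self d.orderOf_half
        have hzk : ∃ k : ℕ, orderOf z = 2 ^ k := ⟨1, by rw [hzo, pow_one]⟩
        have hz1 : z ≠ 1 := invol_ne_one hzo
        have hidx := index_pPrimeCore_centralizer d hzk hz1
        have h := sum_principal_mul_conj_section (x := z) (g := z) hM hzk hidx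
        rw [if_pos ⟨z, isPPart_self hzk, IsConj.refl z⟩, ← hidx, index_reflection d i hc] at h
        have h' : ∑ χ ∈ Finset.univ.filter (fun χ : IrrCharacter G => χ ∈ principalBlock M G),
            Complex.normSq ((χ : G → ℂ) z) = ((4 : ℕ) : ℝ) := by
          apply Complex.ofReal_injective
          rw [Complex.ofReal_sum, Complex.ofReal_natCast, ← h, Finset.sum_filter]
          exact Finset.sum_congr rfl fun χ _ => by simp only [Complex.mul_conj]
        have hsub : ({trivIrr G, a, b, c, ψ} : Finset (IrrCharacter G)) ⊆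
            Finset.univ.filter (fun χ : IrrCharacter G => χ ∈ principalBlock M G) := by
          intro χ hχ
          simp only [Finset.mem_insert, Finset.mem_singleton] at hχ
          rcases hχ with rfl | rfl | rfl | rfl | rfl <;>
            simp [one_mem_principalBlock, haB, hbB, hcB, hψ]
        have hle := (Finset.sum_le_sum_of_subset_of_nonneg (f := fun χ : IrrCharacter G =>
          Complex.normSq ((χ : G → ℂ) z)) hsub fun _ _ _ => Complex.normSq_nonneg _).trans_eq h'
        rw [Finset.sum_insert (by simp [hoa, hob, hoc, Ne.symm n0]),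
          Finset.sum_insert (by simp [hab, hac, Ne.symm n1]),
          Finset.sum_insert (by simp [hbc, Ne.symm n2]), Finset.sum_pair (Ne.symm n3)] at hle
        have e0 : (1 : ℝ) ≤ Complex.normSq ((trivIrr G : G → ℂ) z) := by rw [trivIrr_apply]; simp
        have ea := one_le_normSq_of_odd hJ2 hz2 a hδ₁ (by rw [hval a haB _ hh0, hwa _ hh0])
        have hsq : ∀ δ : ℤ, (δ = 1 ∨ δ = -1) →
            ∃ δ' : ℤ, (δ' = 1 ∨ δ' = -1) ∧ -(δ : ℂ) * (-1) ^ (DihSylow.half m).val = δ' := fun δ hδ => by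
          refine ⟨-δ * (-1) ^ (DihSylow.half m).val, ?_, by push_cast; ring⟩
          rcases hδ with rfl | rfl <;> rcases neg_one_pow_eq_or ℤ (DihSylow.half m).val with h | h <;> simp [h]
        obtain ⟨δb, hδb, hb'⟩ := hsq δ₂ hδ₂
        obtain ⟨δc, hδc, hc'⟩ := hsq δ₃ hδ₃
        have eb := one_le_normSq_of_odd hJ2 hz2 b hδb (by rw [hval b hbB _ hh0, hwb _ hh0, hb'])
        have ec := one_le_normSq_of_odd hJ2 hz2 c hδc (by rw [hval c hcB _ hh0, hwc _ hh0, hc'])
        have hn := Complex.normSq_nonneg ((ψ : G → ℂ) z)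
        exact Complex.normSq_eq_zero.1 (by push_cast at hle; linarith)
      have hvan : ∀ g : G, 2 ∣ orderOf g → (ψ : G → ℂ) g = 0 := by
        intro g hg
        obtain ⟨v, hv⟩ := exists_isPPart Nat.prime_two g
        have hv1 := isPPart_ne_one hv hg
        rw [apply_eq_pPart d hM hψ hv hv1]
        obtain ⟨y, -, -, hvk, -⟩ := hv
        rcases cases_two_element d hvk hv1 with ⟨l, hl, hc⟩ | ⟨i, -, hc⟩
        · obtain ⟨k, hk⟩ := isConj_iff.1 hc
          rw [← irr_isClassFunction ψ v k, hk, hrot l hl]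
        · obtain ⟨k, hk⟩ := isConj_iff.1 hc
          rw [← irr_isClassFunction ψ v k, hk, hrefl i]
      have hs := blockOf_eq_singleton hM ψ (not_dvd_card_div_of_vanish ψ hvan)
      have : trivIrr G ∈ blockOf M (ψ : G → ℂ) :=
        sameBlock_symm (show SameBlock M (trivIrr G : G → ℂ) (ψ : G → ℂ) from hψ)
      rw [hs] at this
      exact n0 this.symm
    · rintro χ (rfl | rfl | rfl | rfl | ⟨i, rfl⟩)
      exacts [one_mem_principalBlock, haB, hbB, hcB, hμB i]
  · refine ⟨?_, ?_, ?_, fun i => ?_⟩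
    · rw [hval a haB _ hl, hwa _ hl]
    · rw [hval b hbB _ hl, hwb _ hl, hsign, pow_succ]; ring
    · rw [hval c hcB _ hl, hwc _ hl, hsign, pow_succ]; ring
    · rw [hval _ (hμB i) _ hl, hwμ i _ hl]
  · have hg2 : ¬ 2 ∣ orderOf g := fun h => (Nat.not_even_iff_odd.mpr hg) (even_iff_two_dvd.mpr h)
    have h0 : ∀ s : ZMod m, ∑ χ : IrrCharacter G, cf d M (tdiff ζ s 1) χ * (χ : G → ℂ) g = 0 := fun s => by
      have h := Phi_odd (d := d) hM (tdiff ζ s 1) hg2
      simpa [Phi, Finset.sum_apply] using h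
    have hu := h0 0
    have hv := h0 (DihSylow.half m)
    have ht := h0 (expo i)
    simp only [hU, hV, hT, add_mul, sub_mul, neg_mul, ite_mul, zero_mul, one_mul, Finset.sum_add_distrib,
      Finset.sum_sub_distrib, Finset.sum_neg_distrib, Finset.sum_ite_eq', Finset.mem_univ, if_true,
      trivIrr_apply] at hu hv ht
    exact ⟨by linear_combination hu - hv, by linear_combination hu - ht⟩

end Main

end Cfsg.Agent.Lib.DihedralBlock
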