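import Cfsg.Agent.Lib.DihedralBlock.Glue
import Cfsg.Agent.Lib.Characters.Convolution

/-!
# Brauer's order formula for a dihedral Sylow 2-subgroup and one class of involutions
-/

set_option autoImplicit false
set_option linter.unusedSectionVars false
set_option linter.style.haveILetI false

namespace Cfsg.Agent.Lib.DihedralBlock

open Cfsg Cfsg.Agent.Lib.Characters Cfsg.Agent.Lib.Blocks Cfsg.Agent.Lib.Cores
open Cfsg.Agent.Lib.Involutions DihedralGroup
open scoped ComplexConjugate Classical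

universe u

section Retraction

variable {G : Type u} [Group G] [Finite G] {m : ℕ}

/-- The centralizer of the central rotation retracts onto the Sylow subgroup. -/
theorem exists_retraction (d : DihSylow G m) :
    ∃ ψ : Subgroup.centralizer ({d.ι (r (DihSylow.half m))} : Set G) →* DihedralGroup m,
      (∀ (g : DihedralGroup m) (h : d.ι g ∈ Subgroup.centralizer ({d.ι (r (DihSylow.half m))} : Set G)),
        ψ ⟨d.ι g, h⟩ = g) ∧ Odd (Nat.card ψ.ker) ∧
      ∀ y : Subgroup.centralizer ({d.ι (r (DihSylow.half m))} : Set G), (∃ k : ℕ, orderOf y = 2 ^ k) →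
        ∃ c : Subgroup.centralizer ({d.ι (r (DihSylow.half m))} : Set G), ∃ g : DihedralGroup m,
          (c : G) * (y : G) * (c : G)⁻¹ = d.ι g := by
  haveI : Fact (Nat.Prime 2) := ⟨Nat.prime_two⟩
  haveI := d.neZero
  set C := Subgroup.centralizer ({d.ι (r (DihSylow.half m))} : Set G) with hC
  obtain ⟨N, hN, hodd, k, hk⟩ := Cfsg.Agent.S0514.result d.S m d.two_le
    ⟨((MulEquiv.subgroupCongr d.range_eq).symm.trans (MonoidHom.ofInjective d.inj).symm)⟩
    (d.ι (r (DihSylow.half m))) d.orderOf_half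
  have hSC : (d.S : Subgroup G) ≤ C := fun x hx =>
    Subgroup.mem_centralizer_singleton_iff.2 (d.half_central hx).symm.eq
  set j : DihedralGroup m →* C := d.ι.codRestrict C fun g => hSC (d.ι_mem g)
  set φ := (QuotientGroup.mk' N).comp j with hφ
  obtain ⟨l, hl⟩ := IsPGroup.iff_card.mp d.S.2
  rw [d.card_S] at hl
  have hinj : Function.Injective φ := by
    rw [← MonoidHom.ker_eq_bot_iff, Subgroup.eq_bot_iff_forall]
    intro g hg
    have hgN : j g ∈ N := (QuotientGroup.eq_one_iff _).mp hg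
    have h1 : orderOf g ∣ 2 ^ l := by
      rw [← hl, ← DihedralGroup.nat_card]; exact orderOf_dvd_natCard g
    have h2 : orderOf g ∣ Nat.card N := by
      rw [← orderOf_injective j ((MonoidHom.injective_codRestrict _ _ _).2 d.inj) g]
      exact Subgroup.orderOf_dvd_natCard _ hgN
    exact orderOf_eq_one_iff.mp (Nat.eq_one_of_dvd_coprimes
      ((Nat.coprime_two_left.mpr hodd).pow_left l) h1 h2)
  have hbij : Function.Bijective φ := by
    refine ⟨hinj, ?_⟩
    rw [← MonoidHom.range_eq_top]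
    refine Subgroup.eq_top_of_le_card _ ?_
    rw [← Nat.card_congr (MonoidHom.ofInjective hinj).toEquiv, DihedralGroup.nat_card,
      ← Subgroup.index_eq_card, hk, hl]
    refine Nat.pow_le_pow_right two_pos ?_
    have h := ((d.S.subtype hSC) : Subgroup C).index_ne_zero_of_finite
    have hS : Nat.card (d.S.subtype hSC : Subgroup C) = 2 ^ (Nat.card C).factorization 2 :=
      Sylow.card_eq_multiplicity _
    rw [Sylow.coe_subtype, Nat.card_congr (Subgroup.subgroupOfEquivOfLe hSC).toEquiv, d.card_S, hl] at hS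
    have hle : k ≤ (Nat.card C).factorization 2 := by
      refine (Nat.prime_two.pow_dvd_iff_le_factorization Nat.card_pos.ne').mp ?_
      rw [← hk]; exact N.index_dvd_card
    rw [Nat.pow_right_injective le_rfl hS]
    exact hle
  refine ⟨(MulEquiv.ofBijective φ hbij).symm.toMonoidHom.comp (QuotientGroup.mk' N), ?_, ?_, ?_⟩
  · intro g h
    show (MulEquiv.ofBijective φ hbij).symm (QuotientGroup.mk' N ⟨d.ι g, h⟩) = g
    exact (MulEquiv.ofBijective φ hbij).symm_apply_apply g
  · have : ((MulEquiv.ofBijective φ hbij).symm.toMonoidHom.comp (QuotientGroup.mk' N)).ker = N := by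
      ext x
      rw [MonoidHom.mem_ker, MonoidHom.comp_apply]
      exact ((MulEquiv.ofBijective φ hbij).symm.map_eq_one_iff).trans (QuotientGroup.eq_one_iff x)
    rw [this]; exact hodd
  · intro y hy
    haveI := Fintype.ofFinite C
    obtain ⟨Q, hQ⟩ := (isPGroup_zpowers_of_orderOf (p := 2) hy).exists_le_sylow
    obtain ⟨c, hc⟩ := MulAction.exists_smul_eq C Q (d.S.subtype hSC)
    have hmem : c * y * c⁻¹ ∈ (d.S.subtype hSC : Subgroup C) := by
      rw [← hc]; exact ⟨y, hQ (Subgroup.mem_zpowers y), rfl⟩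
    obtain ⟨g, hg⟩ := d.exists_ι (show ((c * y * c⁻¹ : C) : G) ∈ (d.S : Subgroup G) from hmem)
    exact ⟨c, g, hg.symm⟩

theorem conj_r_eq (g : DihedralGroup m) (a b : ZMod m) (h : g * r a * g⁻¹ = r b) :
    b = a ∨ b = -a := by
  rcases mul_r_mul_inv g a with h' | h' <;> rw [h'] at h
  · exact Or.inl (r.inj h).symm
  · exact Or.inr (r.inj h).symm

end Retraction

section Zinv

variable {G : Type u} [Group G] [Finite G]

/-- The involution in the cyclic group of an element of even order. -/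
noncomputable def zinv (g : G) : G := g ^ (orderOf g / 2)

theorem orderOf_zinv {g : G} (hg : 2 ∣ orderOf g) : orderOf (zinv g) = 2 := by
  obtain ⟨k, hk⟩ := hg
  have hk0 : 0 < k := by have := orderOf_pos g; omega
  rw [zinv, hk, Nat.mul_div_cancel_left k two_pos, orderOf_pow_of_dvd hk0.ne' ⟨2, by rw [hk, mul_comm]⟩,
    hk, Nat.mul_div_cancel _ hk0]

theorem zinv_conj (c g : G) : zinv (c * g * c⁻¹) = c * zinv g * c⁻¹ := by
  rw [zinv, zinv, orderOf_conj_eq, conj_pow]

theorem zinv_of_orderOf_two {g : G} (hg : orderOf g = 2) : zinv g = g := by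
  rw [zinv, hg, Nat.div_self two_pos, pow_one]

theorem commute_zinv_left {u v : G} (hu : u * u = 1) (hv : v * v = 1) (h : 2 ∣ orderOf (u * v)) :
    Commute u (zinv (u * v)) := by
  have hui : u⁻¹ = u := inv_eq_of_mul_eq_one_right hu
  have hvi : v⁻¹ = v := inv_eq_of_mul_eq_one_right hv
  have hz := orderOf_zinv h
  have hzi : (zinv (u * v))⁻¹ = zinv (u * v) := inv_eq_of_mul_eq_one_right (invol_mul_self hz)
  have hinv : u * (u * v) * u⁻¹ = (u * v)⁻¹ := by
    rw [mul_inv_rev, hui, hvi, ← mul_assoc u u v, hu, one_mul]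
  have h2 : u * zinv (u * v) * u⁻¹ = (zinv (u * v))⁻¹ := by
    rw [zinv, ← conj_pow, hinv, inv_pow]
  rw [hzi] at h2
  exact mul_inv_eq_iff_eq_mul.1 h2

theorem commute_zinv_right {u v : G} (hu : u * u = 1) (hv : v * v = 1) (h : 2 ∣ orderOf (u * v)) :
    Commute v (zinv (u * v)) := by
  have h1 := (commute_zinv_left hu hv h).symm
  have h2 : Commute (zinv (u * v)) (u * v) := Commute.pow_self _ _
  have h3 := h1.mul_right h2
  rw [← mul_assoc, hu, one_mul] at h3
  exact h3.symm

end Zinv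

section Count

variable {G : Type u} [Group G] [Fintype G] [Fintype (IrrCharacter G)] {M : Ideal AlgInt}
  [hMp : M.IsPrime] {m : ℕ} [NeZero m] {d : DihSylow G m} {ζ : ℂ}

/-- The index of a reflection. -/
def reflIndex : DihedralGroup m → ZMod m
  | r a => a
  | sr a => a

theorem retraction_involution (ψ : Subgroup.centralizer ({d.ι (r (DihSylow.half m))} : Set G) →* DihedralGroup m)
    (hψ : ∀ (g : DihedralGroup m) (h : d.ι g ∈ Subgroup.centralizer ({d.ι (r (DihSylow.half m))} : Set G)),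
      ψ ⟨d.ι g, h⟩ = g)
    (hc : ∀ y : Subgroup.centralizer ({d.ι (r (DihSylow.half m))} : Set G), (∃ k : ℕ, orderOf y = 2 ^ k) →
      ∃ c : Subgroup.centralizer ({d.ι (r (DihSylow.half m))} : Set G), ∃ g : DihedralGroup m,
        (c : G) * (y : G) * (c : G)⁻¹ = d.ι g)
    (y : Subgroup.centralizer ({d.ι (r (DihSylow.half m))} : Set G)) (hy : orderOf y = 2) :
    (∃ i, ψ y = sr i) ∨ (y : G) = d.ι (r (DihSylow.half m)) := by
  obtain ⟨c, g, hg⟩ := hc y ⟨1, by rw [hy, pow_one]⟩
  have ho : orderOf (d.ι g) = 2 := by rw [← hg, orderOf_conj_eq, Subgroup.orderOf_coe, hy]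
  have hmem : d.ι g ∈ Subgroup.centralizer ({d.ι (r (DihSylow.half m))} : Set G) := by
    rw [← hg]; exact (c * y * c⁻¹).2
  have e : c * y * c⁻¹ = ⟨d.ι g, hmem⟩ := Subtype.ext hg
  rcases d.invol_cases ho (d.ι_mem g) with h | ⟨i, h⟩
  · right
    have hcJ := Subgroup.mem_centralizer_singleton_iff.1 c.2
    rw [h] at hg
    calc (y : G) = (c : G)⁻¹ * ((c : G) * (y : G) * (c : G)⁻¹) * (c : G) := by group
      _ = d.ι (r (DihSylow.half m)) := by rw [hg, mul_assoc, ← hcJ, inv_mul_cancel_left]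
  · left
    obtain rfl := d.inj h
    have he := congrArg ψ e
    rw [map_mul, map_mul, map_inv, hψ] at he
    have he' : ψ y = (ψ c)⁻¹ * sr i * ψ c := by rw [← he]; group
    rw [he']
    cases ψ c with
    | r a => exact ⟨_, by rw [inv_r, r_mul_sr, sr_mul_r]⟩
    | sr a => exact ⟨_, by rw [inv_sr, sr_mul_sr, r_mul_sr]⟩

/-- The weighted count of involution pairs. -/
theorem sum_class_Phi (hM : IsPModular 2 M) (hζ : IsPrimitiveRoot ζ m) (hm : 4 ≤ m)
    (hall : ∀ z : G, orderOf z = 2 → IsConj (d.ι (r (DihSylow.half m))) z) :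
    ∑ v, classIndicator (d.ι (r (DihSylow.half m))) v *
        Phi d M (tdiff ζ 0 1) (d.ι (r (DihSylow.half m)) * v) =
      2 * ((Nat.card (Subgroup.centralizer ({d.ι (r (DihSylow.half m))} : Set G)) : ℂ) /
          Nat.card (Subgroup.centralizer ({d.ι (r (DihSylow.half m)), d.ι (sr 0)} : Set G)) +
        (Nat.card (Subgroup.centralizer ({d.ι (r (DihSylow.half m))} : Set G)) : ℂ) /
          Nat.card (Subgroup.centralizer ({d.ι (r (DihSylow.half m)), d.ι (sr (-1))} : Set G))) ^ 2 := by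
  set J := d.ι (r (DihSylow.half m)) with hJ
  set C := Subgroup.centralizer ({J} : Set G) with hCdef
  set F := Phi d M (tdiff ζ 0 1) with hF
  have hFcl : IsClassFunction G F := isClassFunction_Phi _
  have hJo : orderOf J = 2 := d.orderOf_half
  have hinv : ∀ z, IsConj J z ↔ orderOf z = 2 := fun z => ⟨fun h => by
    obtain ⟨c, rfl⟩ := isConj_iff.1 h
    rw [orderOf_conj_eq, hJo], hall z⟩
  set I := Finset.univ.filter fun z : G => orderOf z = 2 with hI
  have hmemI : ∀ z, z ∈ I ↔ orderOf z = 2 := fun z => by simp [hI]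
  have hL : ∑ v, classIndicator J v * F (J * v) = ∑ v ∈ I, F (J * v) := by
    rw [Finset.sum_filter]
    refine Finset.sum_congr rfl fun v _ => ?_
    by_cases h : orderOf v = 2
    · rw [if_pos h, classIndicator, if_pos ((hinv v).2 h), one_mul]
    · rw [if_neg h, classIndicator, if_neg fun h' => h ((hinv v).1 h'), zero_mul]
  rw [hL]
  -- pairs
  set Nz : G → ℂ := fun z => ∑ u ∈ I, ∑ v ∈ I, if zinv (u * v) = z then F (u * v) else 0 with hNz
  have hconjsum : ∀ (c : G) (g : G → ℂ), ∑ v ∈ I, g (c * v * c⁻¹) = ∑ v ∈ I, g v := fun c g =>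
    Finset.sum_equiv (MulAut.conj c).toEquiv (fun v => by simp [hmemI, orderOf_conj_eq]) fun v _ => rfl
  have h1 : ∀ u ∈ I, ∑ v ∈ I, F (u * v) = ∑ v ∈ I, F (J * v) := by
    intro u hu
    obtain ⟨c, hc⟩ := isConj_iff.1 (hall u ((hmemI u).1 hu))
    rw [← hconjsum c (fun v => F (u * v))]
    refine Finset.sum_congr rfl fun v _ => ?_
    show F (u * (c * v * c⁻¹)) = F (J * v)
    rw [← hFcl (J * v) c, ← hc]
    congr 1
    group
  have h2 : ∀ z ∈ I, Nz z = Nz J := by
    intro z hz
    obtain ⟨c, hc⟩ := isConj_iff.1 (hall z ((hmemI z).1 hz))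
    simp only [hNz]
    rw [← hconjsum c]
    refine Finset.sum_congr rfl fun u _ => ?_
    rw [← hconjsum c]
    refine Finset.sum_congr rfl fun v _ => ?_
    rw [show c * u * c⁻¹ * (c * v * c⁻¹) = c * (u * v) * c⁻¹ by group, zinv_conj, hFcl, ← hc]
    simp only [mul_left_inj, mul_right_inj]
  have h3 : ∑ z ∈ I, Nz z = ∑ u ∈ I, ∑ v ∈ I, F (u * v) := by
    simp only [hNz]
    rw [Finset.sum_comm]
    refine Finset.sum_congr rfl fun u _ => ?_
    rw [Finset.sum_comm]
    refine Finset.sum_congr rfl fun v _ => ?_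
    rw [Finset.sum_ite_eq]
    by_cases h : 2 ∣ orderOf (u * v)
    · rw [if_pos ((hmemI _).2 (orderOf_zinv h))]
    · rw [hF, Phi_odd hM _ h, ite_self]
  have hkey : ∑ v ∈ I, F (J * v) = Nz J := by
    rw [Finset.sum_congr rfl h1, Finset.sum_congr rfl h2, Finset.sum_const, Finset.sum_const] at h3
    have hIpos : (I.card : ℂ) ≠ 0 :=
      Nat.cast_ne_zero.2 (Finset.card_ne_zero.2 ⟨J, (hmemI J).2 hJo⟩)
    simp only [nsmul_eq_mul] at h3
    exact (mul_left_cancel₀ hIpos h3).symm
  rw [hkey]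
  -- inside the centralizer
  obtain ⟨ψ, hψ, hker, hconj⟩ := exists_retraction d
  haveI := Fintype.ofFinite C
  set R := Finset.univ.filter fun u : C => orderOf u = 2 ∧ (u : G) ≠ J with hR
  have hψR : ∀ u ∈ R, ∃ i, ψ u = sr i := fun u hu =>
    (retraction_involution ψ hψ hconj u (Finset.mem_filter.1 hu).2.1).resolve_right
      (Finset.mem_filter.1 hu).2.2
  have hker1 : ∀ y : C, ψ y = 1 → ¬ 2 ∣ orderOf y := fun y hy h =>
    (Nat.not_even_iff_odd.mpr hker) (even_iff_two_dvd.mpr
      (h.trans (Subgroup.orderOf_dvd_natCard ψ.ker hy)))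
  have hm0 : (m : ℂ) ≠ 0 := Nat.cast_ne_zero.2 (NeZero.ne m)
  have hpair : ∀ u ∈ R, ∀ v ∈ R,
      (if zinv ((u : G) * (v : G)) = J then F ((u : G) * (v : G)) else 0) =
        tdiff ζ 0 1 (reflIndex (ψ v) - reflIndex (ψ u)) := by
    intro u hu v hv
    obtain ⟨i, hi⟩ := hψR u hu
    obtain ⟨k, hk⟩ := hψR v hv
    have hg : ψ (u * v) = r (k - i) := by rw [map_mul, hi, hk, sr_mul_sr]
    rw [hi, hk]
    show _ = tdiff ζ 0 1 (k - i)
    by_cases hl : k - i = 0
    · rw [hl, tdiff_zero, hF]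
      have hodd : ¬ 2 ∣ orderOf ((u : G) * (v : G)) := by
        rw [← Subgroup.coe_mul, Subgroup.orderOf_coe]
        exact hker1 _ (by rw [hg, hl, ← one_def])
      rw [Phi_odd hM _ hodd, ite_self]
    obtain ⟨y, hy⟩ := exists_isPPart (p := 2) Nat.prime_two (u * v : C)
    obtain ⟨w, hw, hyw, hyk, hwodd⟩ := hy
    have hψy : ψ y = r (k - i) := by
      have hw1 : ψ w = 1 := by
        obtain ⟨l, hl⟩ := IsPGroup.iff_card.mp d.S.2
        rw [d.card_S, ← DihedralGroup.nat_card] at hl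
        refine orderOf_eq_one_iff.mp (Nat.eq_one_of_dvd_coprimes
          ((Nat.prime_two.coprime_iff_not_dvd.2 hwodd).pow_left l) (hl ▸ orderOf_dvd_natCard _)
          (orderOf_map_dvd ψ w))
      rw [← hg, ← hw, map_mul, hw1, mul_one]
    have hne : r (k - i) ≠ (1 : DihedralGroup m) := fun h => hl (by rw [one_def] at h; exact r.inj h)
    obtain ⟨c, g, hcg⟩ := hconj y hyk
    have hmem : d.ι g ∈ C := by rw [← hcg]; exact (c * y * c⁻¹).2
    have he := congrArg ψ (show c * y * c⁻¹ = ⟨d.ι g, hmem⟩ from Subtype.ext hcg)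
    rw [map_mul, map_mul, map_inv, hψy, hψ] at he
    obtain ⟨b, hb, rfl⟩ : ∃ b, (b = k - i ∨ b = -(k - i)) ∧ g = r b := by
      rcases mul_r_mul_inv (ψ c) (k - i) with h | h
      · exact ⟨_, Or.inl rfl, he.symm.trans h⟩
      · exact ⟨_, Or.inr rfl, he.symm.trans h⟩
    have hb0 : b ≠ 0 := by
      rcases hb with rfl | rfl
      exacts [hl, neg_ne_zero.2 hl]
    have hpart : IsPPart 2 ((u : G) * (v : G)) (y : G) := by
      refine ⟨(w : G), by rw [← Subgroup.coe_mul, hw, Subgroup.coe_mul], congrArg Subtype.val hyw.eq, ?_, ?_⟩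
      · obtain ⟨l, hl⟩ := hyk
        exact ⟨l, by rw [Subgroup.orderOf_coe, hl]⟩
      · rw [Subgroup.orderOf_coe]; exact hwodd
    have hFv : F ((u : G) * (v : G)) = tdiff ζ 0 1 (k - i) := by
      rw [hF, Phi_of_section hM (tdiff_neg 0 1) hpart hb0 (isConj_iff.2 ⟨_, hcg⟩)]
      rcases hb with rfl | rfl
      · rfl
      · exact tdiff_neg 0 1 _
    have hev : 2 ∣ orderOf (u * v : C) := by
      obtain ⟨l, hl2⟩ := IsPGroup.iff_card.mp d.S.2
      rw [d.card_S, ← DihedralGroup.nat_card] at hl2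
      obtain ⟨j, -, hj⟩ := (Nat.dvd_prime_pow Nat.prime_two).1
        (hl2 ▸ orderOf_dvd_natCard (ψ (u * v)))
      refine dvd_trans ?_ (orderOf_map_dvd ψ (u * v))
      rw [hj]
      refine dvd_pow_self 2 fun h0 => hne ?_
      rw [← hg]
      exact orderOf_eq_one_iff.mp (by rw [hj, h0, pow_zero])
    have hz : zinv ((u : G) * (v : G)) = J := by
      have e : zinv ((u : G) * (v : G)) = ((zinv (u * v : C) : C) : G) := by
        simp only [zinv, Subgroup.coe_pow, ← Subgroup.coe_mul, Subgroup.orderOf_coe]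
      rw [e]
      refine (retraction_involution ψ hψ hconj _ (orderOf_zinv hev)).resolve_left ?_
      rintro ⟨j, hj⟩
      rw [zinv, map_pow, hg, ← ZMod.natCast_zmod_val (k - i), ← r_one_pow, ← pow_mul, r_one_pow] at hj
      exact nomatch hj
    rw [if_pos hz, hFv]
  have hrestrict : Nz J = ∑ u ∈ R, ∑ v ∈ R,
      if zinv ((u : G) * (v : G)) = J then F ((u : G) * (v : G)) else 0 := by
    have hmap : ∀ (g : G → ℂ), (∀ x ∈ I, (x ∉ C ∨ x = J) → g x = 0) →
        ∑ x ∈ I, g x = ∑ x ∈ R, g (x : G) := by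
      intro g hg
      rw [show ∑ x ∈ R, g (x : G) = ∑ x ∈ R.map ⟨Subtype.val, Subtype.val_injective⟩, g x by
        rw [Finset.sum_map]; rfl]
      refine (Finset.sum_subset ?_ ?_).symm
      · intro x hx
        obtain ⟨y, hy, rfl⟩ := Finset.mem_map.1 hx
        exact (hmemI _).2 ((Subgroup.orderOf_coe y).trans (Finset.mem_filter.1 hy).2.1)
      · intro x hx hx'
        refine hg x hx ?_
        by_contra hc
        rw [not_or, not_not] at hc
        refine hx' (Finset.mem_map.2 ⟨⟨x, hc.1⟩, Finset.mem_filter.2 ⟨Finset.mem_univ _, ?_, hc.2⟩, rfl⟩)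
        rw [← Subgroup.orderOf_coe]; exact (hmemI x).1 hx
    have key : ∀ u ∈ I, ∀ v ∈ I, zinv (u * v) = J → (u ∈ C ∧ u ≠ J) ∧ v ∈ C ∧ v ≠ J := by
      intro u hu v hv hz
      have hu2 := invol_mul_self ((hmemI u).1 hu)
      have hv2 := invol_mul_self ((hmemI v).1 hv)
      have hJ1 : J ≠ 1 := invol_ne_one hJo
      have hev : 2 ∣ orderOf (u * v) := by
        have h : orderOf (zinv (u * v)) = 2 := hz.symm ▸ hJo
        rw [zinv] at h
        exact h ▸ (orderOf_pow_dvd _)
      have huC := commute_zinv_left hu2 hv2 hev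
      have hvC := commute_zinv_right hu2 hv2 hev
      rw [hz] at huC hvC
      refine ⟨⟨Subgroup.mem_centralizer_singleton_iff.2 huC.eq, ?_⟩,
        Subgroup.mem_centralizer_singleton_iff.2 hvC.eq, ?_⟩
      · rintro rfl
        by_cases h : v = J
        · rw [h, invol_mul_self hJo, zinv, orderOf_one] at hz
          simp at hz
          exact hJ1 hz.symm
        · have ho : orderOf (J * v) = 2 := by
            refine orderOf_eq_two_of_mul_self ?_ fun e => h ?_
            · rw [mul_assoc, ← mul_assoc v, hvC.eq, mul_assoc, hv2, mul_one, invol_mul_self hJo]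
            · rw [← inv_eq_of_mul_eq_one_right e, inv_eq_of_mul_eq_one_right (invol_mul_self hJo)]
          rw [zinv_of_orderOf_two ho] at hz
          exact invol_ne_one ((hmemI v).1 hv) (mul_left_cancel (hz.trans (mul_one J).symm))
      · rintro rfl
        by_cases h : u = J
        · rw [h, invol_mul_self hJo, zinv, orderOf_one] at hz
          simp at hz
          exact hJ1 hz.symm
        · have ho : orderOf (u * J) = 2 := by
            refine orderOf_eq_two_of_mul_self ?_ fun e => h ?_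
            · rw [mul_assoc, ← mul_assoc J, huC.symm.eq, mul_assoc, invol_mul_self hJo, mul_one, hu2]
            · rw [← inv_eq_of_mul_eq_one_right e, inv_eq_of_mul_eq_one_right hu2]
          rw [zinv_of_orderOf_two ho] at hz
          exact invol_ne_one ((hmemI u).1 hu) (mul_right_cancel (hz.trans (one_mul J).symm))
    simp only [hNz]
    rw [hmap _ fun x hx hbad => Finset.sum_eq_zero fun v hv => if_neg fun hz => by
      obtain ⟨⟨a1, a2⟩, -⟩ := key x hx v hv hz
      exact hbad.elim (fun h => h a1) a2]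
    refine Finset.sum_congr rfl fun u hu => hmap _ fun x hx hbad => if_neg fun hz => ?_
    obtain ⟨-, a1, a2⟩ := key u ((hmemI _).2 ((Subgroup.orderOf_coe u).trans (Finset.mem_filter.1 hu).2.1))
      x hx hz
    exact hbad.elim (fun h => h a1) a2
  rw [hrestrict, Finset.sum_congr rfl fun u hu => Finset.sum_congr rfl fun v hv => hpair u hu v hv]
  -- the exponential sum over the reflections vanishes
  set E : ℂ := ∑ u ∈ R, ez ζ (reflIndex (ψ u)) with hE
  have hE0 : E = 0 := by
    have hmem : d.ι (r 1) ∈ C := Subgroup.mem_centralizer_singleton_iff.2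
      (d.half_central (d.ι_mem _)).symm.eq
    have e : E = ez ζ (-(1 + 1) : ZMod m) * E := by
      rw [hE, Finset.mul_sum]
      conv_lhs => rw [← Finset.sum_equiv (MulAut.conj (⟨d.ι (r 1), hmem⟩ : C)).toEquiv
        (s := R) (f := fun u => ez ζ (reflIndex (ψ (MulAut.conj (⟨d.ι (r 1), hmem⟩ : C) u))))
        (fun u => by
          have hcJ : Commute (d.ι (r 1)) J := (d.half_central (d.ι_mem _)).symm
          simp only [hR, Finset.mem_filter, Finset.mem_univ, true_and, MulEquiv.toEquiv_eq_coe,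
            EquivLike.coe_coe, MulAut.conj_apply, orderOf_conj_eq, Subgroup.coe_mul, Subgroup.coe_inv]
          refine and_congr_right fun _ => not_congr ⟨fun h => ?_, fun h => ?_⟩
          · rw [h, hcJ.eq, mul_inv_cancel_right]
          · calc (u : G) = (d.ι (r 1))⁻¹ * (d.ι (r 1) * (u : G) * (d.ι (r 1))⁻¹) * d.ι (r 1) := by group
              _ = J := by rw [h, mul_assoc, ← hcJ.eq, inv_mul_cancel_left]) (fun u _ => rfl)]
      refine Finset.sum_congr rfl fun u hu => ?_
      obtain ⟨i, hi⟩ := hψR u hu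
      rw [MulAut.conj_apply, map_mul, map_mul, map_inv, hψ, hi, dihedral_conj_r_sr]
      show ez ζ (i - (1 + 1)) = _ * ez ζ i
      rw [← ez_add hζ]
      congr 1
      ring
    have hne : ez ζ (-(1 + 1) : ZMod m) ≠ 1 := by
      intro h
      rw [ez] at h
      have hv := Nat.eq_zero_of_dvd_of_lt ((hζ.pow_eq_one_iff_dvd _).1 h) (ZMod.val_lt _)
      rw [ZMod.val_eq_zero, neg_eq_zero, show (1 + 1 : ZMod m) = ((2 : ℕ) : ZMod m) by push_cast; norm_num,
        ZMod.natCast_eq_zero_iff] at hv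
      have := Nat.le_of_dvd two_pos hv
      omega
    by_contra h
    exact hne (mul_right_cancel₀ h (e.symm.trans (one_mul E).symm))
  have hsum : ∑ u ∈ R, ∑ v ∈ R, tdiff ζ 0 1 (reflIndex (ψ v) - reflIndex (ψ u)) =
      2 * (R.card : ℂ) ^ 2 := by
    have e : ∀ a b : ZMod m, tdiff ζ 0 1 (b - a) =
        2 - ez ζ b * conj (ez ζ a) - conj (ez ζ b) * ez ζ a := fun a b => by
      simp only [tdiff, theta, zero_mul, neg_zero, ez_zero, one_mul, conj_ez hζ, ← ez_add hζ, neg_sub]
      rw [show b + -a = b - a by ring, show -b + a = a - b by ring]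
      ring
    simp only [e, Finset.sum_sub_distrib, Finset.sum_const, nsmul_eq_mul, ← Finset.sum_mul, ← hE, hE0,
      zero_mul, Finset.mul_sum, mul_zero, ← map_sum, map_zero]
    ring
  rw [hsum]
  -- counting the reflections
  have hmemC : ∀ g, d.ι g ∈ C := fun g => Subgroup.mem_centralizer_singleton_iff.2
    (d.half_central (d.ι_mem g)).symm.eq
  have hK : ∀ g : DihedralGroup m, (Nat.card {x : C // IsConj (⟨d.ι g, hmemC g⟩ : C) x} : ℂ) =
      (Nat.card C : ℂ) / Nat.card (Subgroup.centralizer ({J, d.ι g} : Set G)) := by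
    intro g
    have hcard : Nat.card (Subgroup.centralizer ({J, d.ι g} : Set G)) =
        Nat.card (Subgroup.centralizer ({(⟨d.ι g, hmemC g⟩ : C)} : Set C)) := by
      refine Nat.card_congr
        { toFun := fun x => ⟨⟨x, Subgroup.mem_centralizer_singleton_iff.2
            ((Subgroup.mem_centralizer_iff.1 x.2 J (by simp)).symm)⟩,
            Subgroup.mem_centralizer_singleton_iff.2 (Subtype.ext
              ((Subgroup.mem_centralizer_iff.1 x.2 (d.ι g) (by simp)).symm))⟩
          invFun := fun x => ⟨((x : C) : G), Subgroup.mem_centralizer_iff.2 ?_⟩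
          left_inv := fun x => rfl
          right_inv := fun x => rfl }
      rintro z (rfl | rfl)
      · exact (Subgroup.mem_centralizer_singleton_iff.1 (x : C).2).symm
      · exact (congrArg Subtype.val (Subgroup.mem_centralizer_singleton_iff.1 x.2)).symm
    rw [hcard, eq_div_iff (Nat.cast_ne_zero.2 Nat.card_pos.ne'), ← Nat.cast_mul, card_conj_mul_card_centralizer]
  rw [← hK (sr 0), ← hK (sr (-1)), ← Nat.cast_add]
  congr 3
  rw [Nat.card_eq_fintype_card, Nat.card_eq_fintype_card, Fintype.card_subtype, Fintype.card_subtype,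
    ← Finset.card_union_of_disjoint]
  · congr 1
    ext u
    simp only [hR, Finset.mem_filter, Finset.mem_univ, true_and, Finset.mem_union]
    constructor
    · rintro ⟨hu2, huJ⟩
      obtain ⟨c, g, hcg⟩ := hconj u ⟨1, by rw [hu2, pow_one]⟩
      have huc : IsConj u (⟨d.ι g, hmemC g⟩ : C) := isConj_iff.2 ⟨c, Subtype.ext hcg⟩
      have hg2 : orderOf (d.ι g) = 2 := by rw [← hcg, orderOf_conj_eq, Subgroup.orderOf_coe, hu2]
      rcases d.invol_cases hg2 (d.ι_mem g) with h | ⟨i, h⟩
      · exfalso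
        apply huJ
        rw [h] at hcg
        calc (u : G) = (c : G)⁻¹ * ((c : G) * (u : G) * (c : G)⁻¹) * (c : G) := by group
          _ = J := by rw [hcg, mul_assoc, ← (Subgroup.mem_centralizer_singleton_iff.1 c.2), inv_mul_cancel_left]
      · obtain rfl := d.inj h
        have hstep : ∀ j, IsConj (⟨d.ι (sr i), hmemC _⟩ : C) ⟨d.ι (sr (i - (j + j))), hmemC _⟩ := fun j =>
          isConj_iff.2 ⟨⟨d.ι (r j), hmemC _⟩, Subtype.ext (d.conj_sr i j)⟩
        rcases d.parity_cases i with ⟨j, hj⟩ | ⟨j, hj⟩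
        · left
          have h0 := hstep j
          simp only [hj, sub_self] at h0 huc
          exact (huc.trans h0).symm
        · right
          have h0 := hstep (j + 1)
          simp only [hj, show (1 : ZMod m) + (j + j) - (j + 1 + (j + 1)) = -1 by ring] at h0 huc
          exact (huc.trans h0).symm
    · rintro (h | h) <;> obtain ⟨c, hc⟩ := isConj_iff.1 h <;> refine ⟨?_, fun e => ?_⟩ <;>
        (try (rw [← hc, orderOf_conj_eq, ← Subgroup.orderOf_coe]; exact d.orderOf_sr _))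
      all_goals
        have e' := congrArg Subtype.val hc
        simp only [Subgroup.coe_mul, Subgroup.coe_inv, e] at e'
        have hcJ := Subgroup.mem_centralizer_singleton_iff.1 c.2
        rw [mul_inv_eq_iff_eq_mul, ← hcJ] at e'
        exact nomatch d.inj (mul_left_cancel e')
  · rw [Finset.disjoint_filter]
    intro u _ h h'
    obtain ⟨c, hc⟩ := isConj_iff.1 (h.trans h'.symm)
    have he := congrArg ψ hc
    rw [map_mul, map_mul, map_inv, hψ, hψ] at he
    cases hg : ψ c with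
    | r a =>
      rw [hg] at he
      simp only [inv_r, r_mul_sr, sr_mul_r, sr.injEq] at he
      exact d.parity_ne a 0 (by linear_combination -he)
    | sr a =>
      rw [hg] at he
      simp only [inv_sr, sr_mul_sr, r_mul_sr, sr.injEq] at he
      exact d.parity_ne (-a) 0 (by linear_combination -he)

/-- **Brauer's order formula.** -/
theorem order_formula (hM : IsPModular 2 M) (hζ : IsPrimitiveRoot ζ m) (hm : 4 ≤ m)
    (hall : ∀ z : G, orderOf z = 2 → IsConj (d.ι (r (DihSylow.half m))) z)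
    (χ₁ : IrrCharacter G) (hχ₁ : χ₁ ∈ principalBlock M G) (h1 : χ₁ ≠ trivIrr G) (δ : ℤ)
    (hδ : δ = 1 ∨ δ = -1) (hval : ∀ l : ℕ, (l : ZMod m) ≠ 0 → (χ₁ : G → ℂ) (d.ι (r l)) = δ) :
    (charDegree (χ₁ : G → ℂ) : ℤ) ≠ δ ∧
    (Nat.card G : ℚ) * ((charDegree (χ₁ : G → ℂ) : ℚ) - δ) ^ 2 =
      2 * (charDegree (χ₁ : G → ℂ) : ℚ) * ((charDegree (χ₁ : G → ℂ) : ℚ) + δ) *
        (Nat.card (Subgroup.centralizer ({d.ι (r (DihSylow.half m))} : Set G)) : ℚ) ^ 3 *
        (1 / (Nat.card (Subgroup.centralizer ({d.ι (r (DihSylow.half m)), d.ι (sr 0)} : Set G)) : ℚ) +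
          1 / (Nat.card (Subgroup.centralizer ({d.ι (r (DihSylow.half m)), d.ι (sr (-1))} : Set G)) : ℚ)) ^ 2 := by
  obtain ⟨a, b, c, μ, δ₁, δ₂, δ₃, hδ₁, hδ₂, hδ₃, hμi, hoa, hob, hoc, hab, hac, hbc, hμne, hB, hvals, hrel, hU⟩ :=
    principal_structure (d := d) hM hζ hm
  set i₀ : Fin (m / 2 - 1) := ⟨0, by omega⟩
  have hnat : ((m / 2 : ℕ) : ZMod m) = DihSylow.half m := rfl
  have hh0 : ((m / 2 : ℕ) : ZMod m) ≠ 0 := hnat ▸ d.half_ne
  have hsmall : ∀ l : ℕ, 0 < l → l < m → (l : ZMod m) ≠ 0 := fun l h0 hl e => by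
    have := congrArg ZMod.val e
    rw [ZMod.val_natCast, Nat.mod_eq_of_lt hl, ZMod.val_zero] at this
    omega
  obtain ⟨rfl, rfl⟩ : χ₁ = a ∧ δ = δ₁ := by
    have hδ0 : (δ : ℂ) ≠ 0 := by rcases hδ with rfl | rfl <;> norm_num
    have hbad : ∀ x : IrrCharacter G, ∀ e : ℤ, (∀ l : ℕ, (l : ZMod m) ≠ 0 →
        (x : G → ℂ) (d.ι (r l)) = e * (-1) ^ (l + 1)) → χ₁ ≠ x := by
      intro x e hx hh
      subst hh
      have e1 := (hval 1 (hsmall 1 (by omega) (by omega))).symm.trans (hx 1 (hsmall 1 (by omega) (by omega)))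
      have e2 := (hval 2 (hsmall 2 (by omega) (by omega))).symm.trans (hx 2 (hsmall 2 (by omega) (by omega)))
      norm_num at e1 e2
      exact hδ0 (by rw [← e1] at e2; linear_combination e2 / 2)
    have hmem : χ₁ ∈ {χ | χ = trivIrr G ∨ χ = a ∨ χ = b ∨ χ = c ∨ ∃ i, χ = μ i} := hB ▸ hχ₁
    rcases hmem with h | h | h | h | ⟨i, h⟩
    · exact absurd h h1
    · refine ⟨h, ?_⟩
      have := hval _ hh0
      rw [h, (hvals _ hh0).1] at this
      exact_mod_cast this.symm
    · exact absurd h (hbad b δ₂ fun l hl => (hvals l hl).2.1)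
    · exact absurd h (hbad c δ₃ fun l hl => (hvals l hl).2.2.1)
    · exfalso
      have := hval _ hh0
      rw [h, (hvals _ hh0).2.2.2 i, hnat] at this
      rcases theta_half_cases hζ d.half_add (expo i) with e | e <;> rw [e] at this <;>
        rcases hδ₁ with rfl | rfl <;> rcases hδ with rfl | rfl <;> norm_num at this
  set J := d.ι (r (DihSylow.half m)) with hJ
  set A : ℕ := charDegree (χ₁ : G → ℂ) with hA
  set T : ℕ := charDegree (μ i₀ : G → ℂ) with hT
  have hδ2 : (δ : ℂ) * δ = 1 := by rcases hδ with rfl | rfl <;> norm_num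
  have hTA : (T : ℂ) = δ + A := by
    have h := (hrel 1 (by rw [orderOf_one]; exact odd_one) i₀).2
    rw [← charDegree_eq, ← charDegree_eq] at h
    linear_combination (-(δ : ℂ)) * h - ((T : ℂ) - (A : ℂ)) * hδ2
  have hA0 : (A : ℂ) ≠ 0 := Nat.cast_ne_zero.2 (charDegree_pos χ₁).ne'
  have hT0 : (T : ℂ) ≠ 0 := Nat.cast_ne_zero.2 (charDegree_pos (μ i₀)).ne'
  have haJ : (χ₁ : G → ℂ) J = δ := by
    have := hval _ hh0
    rwa [hnat] at this
  have htJ : (μ i₀ : G → ℂ) J = -2 * δ := by
    have h := (hvals _ hh0).2.2.2 i₀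
    rw [hnat] at h
    rw [hJ, h]
    have e1 : expo i₀ = (1 : ZMod m) := by simp [expo, i₀]
    have hh : ez ζ (DihSylow.half m) = -1 := by
      rw [← hnat, ez_natCast hζ, pow_half_eq hζ d.even_m]
    rw [e1, theta, one_mul, ez_neg hζ, hh]
    ring
  have hkey := sum_class_Phi (d := d) hM hζ hm hall
  have hexp : ∀ v, classIndicator J v * Phi d M (tdiff ζ 0 1) (J * v) =
      ∑ χ : IrrCharacter G, cf d M (tdiff ζ 0 1) χ * (classIndicator J v * (χ : G → ℂ) (J * v)) := fun v => by
    simp only [Phi, Finset.sum_apply, Pi.smul_apply, smul_eq_mul, Finset.mul_sum]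
    exact Finset.sum_congr rfl fun χ _ => by ring
  rw [← hJ, Finset.sum_congr rfl fun v _ => hexp v, Finset.sum_comm] at hkey
  simp only [← Finset.mul_sum, fun χ : IrrCharacter G => IsIrrCharacter.sum_class_translate χ.2 J J] at hkey
  simp only [hU, add_mul, sub_mul, ite_mul, zero_mul, one_mul, Finset.sum_add_distrib, Finset.sum_sub_distrib,
    Finset.sum_ite_eq', Finset.mem_univ, if_true] at hkey
  rw [trivIrr_apply, haJ, htJ, trivIrr_apply, ← charDegree_eq, ← charDegree_eq, ← hA, ← hT] at hkey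
  have hI : (Nat.card {x : G // IsConj J x} : ℂ) * Nat.card (Subgroup.centralizer ({J} : Set G)) =
      Nat.card G := by exact_mod_cast card_conj_mul_card_centralizer J
  have hC0 : (Nat.card (Subgroup.centralizer ({J} : Set G)) : ℂ) ≠ 0 := Nat.cast_ne_zero.2 Nat.card_pos.ne'
  set K := (Nat.card {x : G // IsConj J x} : ℂ)
  set C0 := (Nat.card (Subgroup.centralizer ({J} : Set G)) : ℂ)
  have hmain : (Nat.card G : ℂ) * ((A : ℂ) - δ) ^ 2 = 2 * (A : ℂ) * ((A : ℂ) + δ) * C0 ^ 3 *
      (1 / (Nat.card (Subgroup.centralizer ({J, d.ι (sr 0)} : Set G)) : ℂ) +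
        1 / (Nat.card (Subgroup.centralizer ({J, d.ι (sr (-1))} : Set G)) : ℂ)) ^ 2 := by
    have h1 : K * (((A : ℂ) - δ) ^ 2) = (A : ℂ) * ((A : ℂ) + δ) *
        (K * 1 * 1 / 1 + δ * (K * δ * δ / A) - δ * (K * (-2 * δ) * (-2 * δ) / T)) := by
      rw [show (A : ℂ) + δ = T by rw [hTA]; ring]
      field_simp
      rcases hδ with rfl | rfl <;> push_cast at hTA ⊢ <;> rw [hTA] <;> ring
    rw [hkey] at h1
    rw [← hI]
    linear_combination C0 * h1
  have hQ : (Nat.card G : ℚ) * ((A : ℚ) - δ) ^ 2 = 2 * (A : ℚ) * ((A : ℚ) + δ) *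
      (Nat.card (Subgroup.centralizer ({J} : Set G)) : ℚ) ^ 3 *
      (1 / (Nat.card (Subgroup.centralizer ({J, d.ι (sr 0)} : Set G)) : ℚ) +
        1 / (Nat.card (Subgroup.centralizer ({J, d.ι (sr (-1))} : Set G)) : ℚ)) ^ 2 := by
    apply (Rat.cast_injective (α := ℂ))
    push_cast
    exact hmain
  refine ⟨fun h => ?_, hQ⟩
  have h' : (A : ℚ) = (δ : ℚ) := by
    have h'' : ((A : ℤ) : ℚ) = (δ : ℚ) := congrArg (Int.cast : ℤ → ℚ) h
    exact_mod_cast h''
  rw [← h', sub_self] at hQ
  have hAq : (0 : ℚ) < A := Nat.cast_pos.2 (charDegree_pos χ₁)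
  have p0 : (0 : ℚ) < Nat.card (Subgroup.centralizer ({J} : Set G)) := Nat.cast_pos.2 Nat.card_pos
  have p1 : (0 : ℚ) < Nat.card (Subgroup.centralizer ({J, d.ι (sr 0)} : Set G)) := Nat.cast_pos.2 Nat.card_pos
  have p2 : (0 : ℚ) < Nat.card (Subgroup.centralizer ({J, d.ι (sr (-1))} : Set G)) := Nat.cast_pos.2 Nat.card_pos
  have hpos : (0 : ℚ) < 2 * (A : ℚ) * ((A : ℚ) + A) *
      (Nat.card (Subgroup.centralizer ({J} : Set G)) : ℚ) ^ 3 *
      (1 / (Nat.card (Subgroup.centralizer ({J, d.ι (sr 0)} : Set G)) : ℚ) +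
        1 / (Nat.card (Subgroup.centralizer ({J, d.ι (sr (-1))} : Set G)) : ℚ)) ^ 2 := by positivity
  rw [← hQ] at hpos
  simp at hpos

end Count

end Cfsg.Agent.Lib.DihedralBlock
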